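/-
²E₆(q): the positive classes in the order of a longest word, the torus points separating two of them and
the checks on the tables.
-/
import Cfsg.Agent.Lib.Chev.TwistE6Group
import Cfsg.Agent.Lib.Chev.TwistTorus

set_option autoImplicit false

namespace Cfsg.Agent.Twisted.E6Mult

open Cfsg.Lie Cfsg.Agent.Chev Cfsg.Agent.Chev.BNSetup

/-- The orbit of a root. -/
abbrev orbO (r : ℕ) : Fin 48 := orbE6.orbF 48 r

/-- The positive orbits in their order. -/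
def posList : List (Fin 48) := [24, 26, 41, 29, 42, 43, 35, 44, 31, 45, 37, 46, 47, 39, 40, 25, 30, 28, 36, 38, 34, 27, 33, 32]

/-- The positive orbit with a given place. -/
def pos (i : ℕ) : Fin 48 := posList.getD i 24

theorem posList_eq_map : posList = (List.range 24).map pos := by decide +kernel

/-- The reversed word. -/
def word : List (Fin 4) := 0 :: orbE6.covF 4 0

theorem rootsF_word : orbE6.rootsF 48 4 word = posList := by decide +kernel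

theorem redF_word : orbE6.redF 48 4 word = true := by decide +kernel

theorem pos_cover : ∀ o : Fin 48, 36 ≤ orbE6.repF 48 o → o ∈ posList := by decide +kernel

theorem pos_pos : ∀ i : Fin 24, 36 ≤ orbE6.repF 48 (pos i.val) := by decide +kernel

/-- The roots of an orbit. -/
def orbRoots (o : Fin 48) : List ℕ := (List.range 72).filter fun r => decide (orbO r = o)

theorem mem_orbRoots {o : Fin 48} {r : ℕ} (hr : r < chevE6.nroots) (h : orbO r = o) : r ∈ orbRoots o :=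
  List.mem_filter.2 ⟨List.mem_range.2 hr, decide_eq_true h⟩

/-- The terms of commutators of two orbits lie strictly between them. -/
theorem interval_check : ∀ a b : Fin 24, a.val < b.val → ∀ r ∈ orbRoots (pos a.val), ∀ s ∈ orbRoots (pos b.val),
    r ≠ s ∧ r ≠ chevE6.neg s ∧ ∀ x ∈ chevE6.commTerms s r, ∃ c : Fin 24,
      a.val < c.val ∧ c.val < b.val ∧ orbO x.1 = pos c.val := by decide +kernel

/-- Integer points of the torus. -/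
def sepVecs : List (List ℤ) := [[0, 0, 0, -1, 0, 0],
    [0, -1, 0, 0, 0, 0],
    [0, 0, 0, 0, -2, -1],
    [0, 0, -1, -1, 0, -1],
    [0, 0, 0, 0, 1, -1],
    [0, 0, 0, 0, -1, 0],
    [0, -1, 0, 0, 0, -1],
    [0, 0, -1, 0, 0, -1],
    [0, -1, 0, -1, 0, 0],
    [-1, -1, 0, 0, 0, -1],
    [0, 0, 0, 0, -1, -1],
    [0, 0, 0, 1, 0, -1],
    [-1, 1, 0, 0, 0, -1],
    [0, 0, -1, 0, -1, 0],
    [0, 0, 1, 0, -1, -1],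
    [0, -1, -1, 0, -1, 0],
    [0, -1, -1, -1, -1, 0],
    [0, 0, -1, -1, -1, 0],
    [1, 0, 0, -1, -1, -1],
    [0, 0, 0, 0, -1, -2],
    [0, 1, 0, 0, 0, -1],
    [1, 0, 0, 0, -1, -1],
    [0, 0, 0, 0, 0, -1],
    [0, 1, 0, 0, -1, 0],
    [0, -1, 0, -2, 0, 0]]

/-- The number of the point separating two places. -/
def sepTab : List ℕ := [0, 0, 1, 0, 0, 0, 1, 2, 1, 0, 0, 0, 1, 0, 2, 0, 1, 0, 0, 0, 1, 1, 0, 0, 3, 0, 1, 1, 1, 3, 1, 3, 1, 4, 1, 1, 1, 3, 4, 3, 1, 1, 1, 4, 1, 1, 1, 3, 5, 0, 0, 0, 0, 0, 5, 5, 5, 0, 0, 0, 6, 0, 5, 0, 5, 0, 0, 0, 5, 5, 0, 0, 7, 7, 7, 0, 7, 8, 8, 7, 7, 7, 7, 9, 8, 7, 9, 7, 8, 7, 9, 7, 7, 7, 7, 8, 3, 5, 3, 3, 0, 3, 5, 3, 3, 5, 3, 3, 8, 3, 5, 3, 5, 3, 3, 8, 3, 3, 5, 3, 7, 7, 1, 1, 1, 0, 1, 7, 1, 7, 1, 1, 1, 7, 10, 7, 1, 1, 1, 7, 1, 1, 1, 11, 3, 0, 3, 0, 0, 0, 0, 3, 3, 0, 0, 0, 12, 0, 12, 0, 12,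 0, 0, 0, 3, 3, 0, 0, 13, 0, 1, 0, 0, 0, 1, 0, 1, 0, 0, 0, 1, 0, 13, 0, 1, 0, 0, 0, 1, 1, 0, 0, 14, 0, 14, 0, 0, 0, 14, 14, 0, 0, 0, 0, 15, 0, 14, 0, 14, 0, 0, 0, 14, 16, 0, 0, 3, 6, 1, 1, 1, 3, 1, 3, 1, 0, 1, 1, 1, 3, 6, 3, 1, 1, 1, 6, 1, 1, 1, 3, 14, 8, 8, 14, 14, 8, 8, 14, 8, 8, 0, 17, 8, 8, 14, 8, 8, 14, 14, 8, 8, 8, 17, 8, 5, 5, 2, 2, 2, 2, 2, 2, 2, 4, 2, 0, 8, 2, 2, 5, 2, 2, 2, 2, 2, 4, 4, 8, 3, 0, 2, 0, 0, 0, 2, 2, 2, 0, 0, 0, 0, 0, 2, 0, 2, 0, 0, 0, 2, 3, 0, 0, 14, 9, 1, 1, 1, 14, 1, 9, 1, 16, 1, 1, 1, 0, 9, 9, 1, 1, 1, 14, 1, 1, 1, 16, 3, 0, 1, 0, 0, 0, 1, 3, 1, 0, 0, 0, 1, 0, 0, 0, 1, 0, 0, 0, 1, 1, 0, 0, 18, 18, 1, 1, 1, 19, 1, 19, 1, 19, 1, 1, 1, 18, 18, 0, 1, 1, 1, 18, 1, 1, 1, 18, 3, 0, 3, 0, 0, 0, 10, 3, 3, 0, 0, 0, 20, 0, 10, 0, 0, 0, 0, 0, 3, 3, 0, 0, 13, 8, 8, 13, 12, 8, 8, 12, 8, 8, 12, 12, 8, 8, 12,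 8, 8, 0, 21, 8, 8, 8, 12, 8, 6, 6, 7, 6, 7, 6, 6, 6, 6, 7, 6, 6, 6, 6, 6, 6, 8, 6, 0, 6, 6, 6, 6, 8, 3, 5, 1, 1, 1, 3, 1, 3, 1, 5, 1, 1, 1, 3, 5, 3, 1, 1, 1, 0, 1, 1, 1, 3, 13, 0, 9, 0, 0, 0, 13, 9, 9, 0, 0, 0, 9, 0, 9, 0, 18, 0, 0, 0, 0, 9, 0, 0, 14, 14, 14, 14, 14, 14, 14, 14, 17, 17, 22, 17, 23, 22, 14, 14, 14, 14, 14, 14, 14, 0, 17, 17, 3, 14, 3, 3, 14, 3, 14, 3, 3, 16, 3, 3, 16, 3, 14, 3, 14, 3, 3, 14, 3, 3, 0, 3, 5, 5, 2, 2, 2, 2, 2, 2, 2, 4, 2, 24, 24, 2, 2, 5, 2, 2, 2, 2, 2, 4, 4, 0]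

/-- The point separating two places. -/
def sepVec (a b : ℕ) : List ℤ := sepVecs.getD (sepTab.getD (24 * a + b) 0) []

/-- Points moving the simple orbits. -/
def fpfVec (j : Fin 4) : List ℤ := [[0, 0, 0, -1, 0, 0], [0, 0, 0, 0, -1, 0], [0, 0, 0, 0, 0, -1], [0, 0, 0, 0, 0, -1]].getD j.val []

/-- The exponents of a point on a root: `t` and its conjugate. -/
def expo (v : List ℤ) (r : ℕ) : ℤ × ℤ :=
  ((List.range 6).foldl (fun s i => s + v.getD i 0 * chevE6.cartan i r) 0,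
   (List.range 6).foldl (fun s i => s + v.getD ([5, 1, 4, 3, 2, 0].getD i 0) 0 * chevE6.cartan i r) 0)

/-- Exponents which cannot vanish on the multiplicative group. -/
def Moves (e : ℤ × ℤ) : Prop := e.1.natAbs ≤ 2 ∧ e.2.natAbs ≤ 2 ∧ e.1.natAbs + e.2.natAbs ≤ 3 ∧ e ≠ (0, 0)

instance decidableMoves (e : ℤ × ℤ) : Decidable (Moves e) := inferInstanceAs (Decidable (_ ∧ _))

theorem sep_check : ∀ a b : Fin 24, a ≠ b →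
    (∀ r ∈ orbRoots (pos a.val), expo (sepVec a.val b.val) r = (0, 0)) ∧
      ∀ r ∈ orbRoots (pos b.val), Moves (expo (sepVec a.val b.val) r) := by decide +kernel

theorem fpf_check : ∀ j : Fin 4, ∀ r ∈ orbRoots (orbE6.simpF 48 4 j), Moves (expo (fpfVec j) r) := by
  decide +kernel

end Cfsg.Agent.Twisted.E6Mult
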