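/-
²E₆(q): torus elements separating two positive classes, and the action of the torus on a class.
-/
import Cfsg.Agent.Lib.Twisted.E6Mult.Data
import Cfsg.Agent.Lib.Chev.AutOut
import Cfsg.Agent.Lib.Chev.TwistPerfect

set_option autoImplicit false

namespace Cfsg.Agent.Twisted.E6Mult

open Cfsg.Lie Cfsg.Agent.Chev Cfsg.Agent.Chev.BNSetup
open Cfsg.Agent.RootBN (Data)

variable {K : Type*} [Field K]

/-- The point with the exponents `v` on `t` and the twisted ones on its conjugate. -/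
def pt (φ : K ≃+* K) (v : List ℤ) (t : Kˣ) : Fin chevE6.rank → Kˣ := fun i =>
  t ^ v.getD i.val 0 * Units.map (φ : K →* K) t ^ v.getD (([5, 1, 4, 3, 2, 0] : List ℕ).getD i.val 0) 0

theorem pt_fixed {φ : K ≃+* K} (hinv : ∀ x, φ (φ x) = x) (v : List ℤ) (t : Kˣ) :
    pt φ v t ∈ fixedTorus orbE6_ok φ := by
  refine (mem_fixedTorus orbE6_ok φ).2 fun i => ?_
  have hu : Units.map (φ : K →* K) (Units.map (φ : K →* K) t) = t := Units.ext (hinv t)
  have hpi : ∀ i : Fin 6,
      ([5, 1, 4, 3, 2, 0] : List ℕ).getD (([5, 1, 4, 3, 2, 0] : List ℕ).getD i.val 0) 0 = i.val := by decide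
  simp only [pt, nodePerm_val, map_mul, map_zpow, hu]
  rw [show graphE6.pi = [5, 1, 4, 3, 2, 0] from rfl, hpi i, mul_comm]

theorem torusChar_pt (φ : K ≃+* K) (v : List ℤ) (t : Kˣ) (r : ℕ) :
    torusChar chevE6 (pt φ v t) r = t ^ (expo v r).1 * Units.map (φ : K →* K) t ^ (expo v r).2 := by
  show (∏ i : Fin 6, pt φ v t i ^ chevE6.cartan i.val r) = _
  simp only [pt, mul_zpow, ← zpow_mul, Finset.prod_mul_distrib, ← zpow_finset_sum]
  congr 2 <;>
    simp [expo, Fin.sum_univ_six, List.range_succ, add_assoc]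

variable [Fintype K]

/-- A generator of the multiplicative group. -/
noncomputable def gen (K : Type*) [Field K] [Fintype K] : Kˣ := (IsCyclic.exists_generator (α := Kˣ)).choose

variable {q : ℕ} (hK : Fintype.card K = q ^ 2) (hq3 : 3 ≤ q) {φ : K ≃+* K} (hφ : ∀ x, φ x = x ^ q)
include hK hq3 hφ

theorem moves_ne_one {e : ℤ × ℤ} (he : Moves e) :
    gen K ^ e.1 * Units.map (φ : K →* K) (gen K) ^ e.2 ≠ 1 := by
  obtain ⟨h1, h2, h3, h0⟩ := he
  intro h
  have hu : Units.map (φ : K →* K) (gen K) = gen K ^ (q : ℤ) := Units.ext (by simp [hφ])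
  rw [hu, ← zpow_mul, ← zpow_add] at h
  have hord : orderOf (gen K) = q ^ 2 - 1 := by
    have hg : ∀ x : Kˣ, x ∈ Subgroup.zpowers (gen K) := (IsCyclic.exists_generator (α := Kˣ)).choose_spec
    rw [orderOf_eq_card_of_forall_mem_zpowers hg, Nat.card_units, Nat.card_eq_fintype_card, hK]
  have hdvd := orderOf_dvd_iff_zpow_eq_one.2 h
  rw [hord, Nat.cast_sub (Nat.one_le_pow _ _ (by omega))] at hdvd
  push_cast at hdvd
  have hb1 : -2 ≤ e.1 ∧ e.1 ≤ 2 := by omega
  have hb2 : -2 ≤ e.2 ∧ e.2 ≤ 2 := by omega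
  have hq' : (3 : ℤ) ≤ q := by exact_mod_cast hq3
  have hne : e.1 + (q : ℤ) * e.2 ≠ 0 := by
    intro hz
    rcases eq_or_ne e.2 0 with h2' | h2'
    · rw [h2', mul_zero, add_zero] at hz
      exact h0 (Prod.ext hz h2')
    · rcases lt_or_gt_of_ne h2' with hl | hl
      · nlinarith
      · nlinarith
  have hlt : |e.1 + (q : ℤ) * e.2| < (q : ℤ) ^ 2 - 1 := by
    rw [abs_lt]
    rcases e with ⟨A, B⟩
    simp only at h1 h2 h3 hb1 hb2 ⊢
    obtain ⟨a1, a2⟩ := hb1
    obtain ⟨b1, b2⟩ := hb2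
    interval_cases A <;> interval_cases B <;> first | omega | (constructor <;> nlinarith)
  exact hne (Int.eq_zero_of_abs_lt_dvd hdvd hlt)

variable (hinv : ∀ x, φ (φ x) = x)
include hinv

omit hq3 in
theorem torus_mem (v : List ℤ) (t : Kˣ) : torusHom K chevE6 (pt φ v t) ∈ (tw2E6 φ).data.H := by
  refine ⟨?_, map_fixedTorus_le E6.good orbE6_ok φ facts_chevE6 graphE6_cols negTri_chevE6
    (by decide +kernel) ⟨_, pt_fixed hinv v t, rfl⟩⟩
  show _ ∈ chevE6.diagonalSubgroup K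
  rw [diagonal_eq_range E6.good]
  exact ⟨_, rfl⟩

omit [Fintype K] hK hq3 hφ hinv in
/-- A torus element with trivial characters on the roots of an orbit centralises it. -/
theorem fix_Xorb {c : Fin chevE6.rank → Kˣ} {o : Fin 48}
    (h : ∀ r < chevE6.nroots, orbO r = o → torusChar chevE6 c r = 1) :
    ∀ x ∈ (tw2E6 φ).Xorb o, torusHom K chevE6 c * x * (torusHom K chevE6 c)⁻¹ = x := by
  intro x hx
  have hle : (tw2E6 φ).Xorb o ≤ Subgroup.centralizer {torusHom K chevE6 c} := iSup₂_le fun r hr y hy => by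
    obtain ⟨t, rfl⟩ := (mem_rootSubgroup E6.good r.2).1 hy
    rw [Subgroup.mem_centralizer_singleton_iff]
    have h1 := torusHom_conj E6.good c r.val r.2 t
    rw [h r.val r.2 hr, Units.val_one, one_mul, mul_inv_eq_iff_eq_mul] at h1
    exact h1.symm
  rw [← Subgroup.mem_centralizer_singleton_iff.1 (hle hx), mul_inv_cancel_right]

omit [Fintype K] hK hq3 hφ hinv in
/-- A torus element with no trivial character on an orbit fixes no non-trivial element of its fixed part. -/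
theorem eq_one_of_fixed {c : Fin chevE6.rank → Kˣ} {o : Fin 48}
    (h : ∀ r < chevE6.nroots, orbO r = o → torusChar chevE6 c r ≠ 1) {y : GL chevE6.Idx K}
    (hy : y ∈ (tw2E6 φ).X' o) (hfix : torusHom K chevE6 c * y * (torusHom K chevE6 c)⁻¹ = y) : y = 1 := by
  have hT := tw2E6_axioms φ
  have ax := RootBN.Twist.data_axioms hT
  obtain ⟨l, j, rfl⟩ := ax.reach o
  set n := (tw2E6 φ).data.nw l with hn
  have hy' : n⁻¹ * y * n ∈ (tw2E6 φ).X' (orbE6.simpF 48 4 j) :=
    (Data.acts_nw ax l ((tw2E6 φ).simp' j) _).1 (by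
      show n * (n⁻¹ * y * n) * n⁻¹ ∈ _
      rw [show n * (n⁻¹ * y * n) * n⁻¹ = y by group]
      exact hy)
  obtain ⟨a, ha, e⟩ := (mem_X'_simp_iff E6.good orbE6_ok φ facts_chevE6 negTri_chevE6 graphE6_cols j).1 hy'
  have hS := (orbE6_ok.2.2.1 j)
  have hnd : n = (data E6.good K).nw ((tw2E6 φ).flat l) := RootBN.Twist.nw_data l
  have hroot : ∀ k ∈ orbE6.Jl 4 j, ∃ χ : Kˣ, χ ≠ 1 ∧ ∀ t : K,
      torusHom K chevE6 c * (n * xe E6.good (chevE6.simple k) t * n⁻¹) * (torusHom K chevE6 c)⁻¹ =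
        n * xe E6.good (chevE6.simple k) ((χ : K) * t) * n⁻¹ := by
    intro k hk
    have hkl := E6.good.simple_lt (hS.1.1 k hk)
    obtain ⟨u, -, hu⟩ := nw_conj_xe_sign (F := K) E6.good facts_chevE6 ((tw2E6 φ).flat l) ⟨chevE6.simple k, hkl⟩
    set r := (data E6.good K).wl ((tw2E6 φ).flat l) ⟨chevE6.simple k, hkl⟩
    refine ⟨torusChar chevE6 c r.val, h r.val r.2 ?_, fun t => ?_⟩
    · have e1 := RootBN.Twist.orb_wl hT l (⟨chevE6.simple k, hkl⟩ : Fin chevE6.nroots)
      have e2 : (tw2E6 φ).orb ⟨chevE6.simple k, hkl⟩ = (tw2E6 φ).simp' j :=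
        (orb_simple orbE6_ok facts_chevE6 j ⟨_, hkl⟩).2 ⟨k, hk, rfl⟩
      rw [e2] at e1
      exact e1
    · rw [hnd, hu, torusHom_conj E6.good c r.val r.2, hu]
      congr 1
      ring
  choose! χ hχ hconj using hroot
  have key : ∀ J : List ℕ, (∀ k ∈ J, k ∈ orbE6.Jl 4 j) →
      torusHom K chevE6 c * (n * pv E6.good chevE6.simple J a * n⁻¹) * (torusHom K chevE6 c)⁻¹ =
        n * pv E6.good chevE6.simple J (fun k => (χ k : K) * a k) * n⁻¹ := by
    intro J
    induction J with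
    | nil => intro _; simp [pv]
    | cons k J ih =>
      intro hJ
      have h1 := hconj k (hJ k List.mem_cons_self) (a k)
      have h2 := ih fun x hx => hJ x (List.mem_cons_of_mem _ hx)
      simp only [pv, List.map_cons, List.prod_cons] at h2 ⊢
      have e1 : ∀ u w z : GL chevE6.Idx K, z * (u * w) * z⁻¹ = z * u * z⁻¹ * (z * w * z⁻¹) :=
        fun u w z => by group
      rw [e1 _ _ n, e1 _ _ (torusHom K chevE6 c), h1, h2, ← e1]
  have hyn : n * pv E6.good chevE6.simple (orbE6.Jl 4 j) a * n⁻¹ = y := by rw [← e]; group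
  rw [← hyn, key _ fun _ hk => hk, mul_left_inj, mul_right_inj] at hfix
  have hzero : ∀ k ∈ orbE6.Jl 4 j, a k = 0 := fun k hk => by
    have := pv_inj E6.good facts_chevE6 negTri_chevE6 (Or.inl rfl) hS.1 hfix hk
    exact ((mul_left_eq_self₀).1 this).resolve_left fun h1 => hχ k hk (Units.ext h1)
  rw [← hyn, show pv E6.good chevE6.simple (orbE6.Jl 4 j) a = 1 from List.prod_eq_one fun x hx => by
    obtain ⟨k, hk, rfl⟩ := List.mem_map.1 hx
    rw [hzero k hk, xe_zero E6.good (E6.good.simple_lt (hS.1.1 k hk))], mul_one, mul_inv_cancel]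

/-- A torus element centralising one place and moving another. -/
theorem exists_sep {a b : Fin 24} (hab : a ≠ b) : ∃ h ∈ (tw2E6 φ).data.H,
    (∀ x ∈ (tw2E6 φ).X' (pos a.val), h * x * h⁻¹ = x) ∧
      ∀ y ∈ (tw2E6 φ).X' (pos b.val), h * y * h⁻¹ = y → y = 1 := by
  obtain ⟨h1, h2⟩ := sep_check a b hab
  refine ⟨_, torus_mem hK hφ hinv (sepVec a.val b.val) (gen K), fun x hx => fix_Xorb ?_ x hx.1,
    fun y hy hfix => eq_one_of_fixed ?_ hy hfix⟩
  · intro r hr ho
    rw [torusChar_pt, h1 r (mem_orbRoots hr ho)]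
    simp
  · intro r hr ho
    rw [torusChar_pt]
    exact moves_ne_one hK hq3 hφ (h2 r (mem_orbRoots hr ho))

/-- A torus element moving a simple class. -/
theorem exists_fpf (j : Fin 4) : ∃ h ∈ (tw2E6 φ).data.H,
    ∀ y ∈ (tw2E6 φ).X' (orbE6.simpF 48 4 j), h * y * h⁻¹ = y → y = 1 :=
  ⟨_, torus_mem hK hφ hinv (fpfVec j) (gen K), fun y hy hfix => eq_one_of_fixed (fun r hr ho => by
    rw [torusChar_pt]
    exact moves_ne_one hK hq3 hφ (fpf_check j r (mem_orbRoots hr ho))) hy hfix⟩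

end Cfsg.Agent.Twisted.E6Mult
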