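/-
²E₆(q): the commutator relations of the positive classes, and generation of a class by commutators of two
classes commuting with it.
-/
import Cfsg.Agent.Lib.Twisted.E6Mult.Torus
import Cfsg.Agent.Lib.RootBN.TwistChain
import Cfsg.Agent.Lib.Chev.Steinberg.Torus

set_option autoImplicit false

namespace Cfsg.Agent.Twisted.E6Mult

open Cfsg.Lie Cfsg.Agent.Chev Cfsg.Agent.Chev.BNSetup
open Cfsg.Agent.RootBN (Data)
open Cfsg.Agent.Schur.RootLift (V le_V)
open scoped commutatorElement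

variable {K : Type*} [Field K] (φ : K ≃+* K)

theorem comm_word {r s : ℕ} (hr : r < chevE6.nroots) (hs : s < chevE6.nroots) (h1 : s ≠ r)
    (h2 : s ≠ chevE6.neg r) (A B : K) :
    ⁅xe E6.good s A, xe E6.good r B⁆ = wordG chevE6 K (chevE6.commWord K r s (-B) (-A)) := by
  rw [← E6.good.xg_commutator hr hs h1 h2, xe_eq_xg E6.good, xe_eq_xg E6.good, E6.good.xg_inv,
    E6.good.xg_inv, neg_neg, neg_neg, commutatorElement_def, E6.good.xg_inv, E6.good.xg_inv]

theorem chainData : RootBN.Twist.ChainData (tw2E6 φ) word pos 24 where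
  reduced := (reduced_iff E6.good orbE6_ok φ word).2 redF_word
  roots_eq := (roots_eq E6.good orbE6_ok φ word).trans (rootsF_word.trans posList_eq_map)
  gen a b hab hb r s hr hs y hy z hz := by
    obtain ⟨t, rfl⟩ := (mem_rootSubgroup E6.good r.2).1 hy
    obtain ⟨u, rfl⟩ := (mem_rootSubgroup E6.good s.2).1 hz
    obtain ⟨h1, h2, h3⟩ := interval_check ⟨a, by omega⟩ ⟨b, hb⟩ hab r.val (mem_orbRoots r.2 hr) s.val
      (mem_orbRoots s.2 hs)
    rw [comm_word s.2 r.2 h1 h2 t u, wordG]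
    refine list_prod_mem fun x hx => ?_
    simp only [ChevalleyDatum.commWord, List.map_map, List.mem_map, Function.comp_apply] at hx
    obtain ⟨w, hw, rfl⟩ := hx
    obtain ⟨c, hc1, hc2, hc⟩ := h3 w hw
    have hlt := E6.good.commTerms_lt s.2 r.2 hw
    refine le_V (fun c => (tw2E6 φ).Xorb (pos c)) (c := c.val) hc1 hc2
      (RootBN.Twist.X_le_Xorb (T := tw2E6 φ) (r := ⟨w.1, hlt⟩) hc ?_)
    exact (mem_rootSubgroup E6.good hlt).2 ⟨_, (xe_eq_xg E6.good _ _).symm⟩

theorem comm_single {r s k : ℕ} (hr : r < chevE6.nroots) (hs : s < chevE6.nroots) (h1 : s ≠ r)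
    (h2 : s ≠ chevE6.neg r)
    (hterm : (chevE6.commTerms r s).map (fun x => (x.1, x.2.1 * x.2.1, x.2.2)) = [(k, 1, 1, 1)]) :
    ∃ e : K, e * e = 1 ∧ ∀ A B, ⁅xe E6.good s A, xe E6.good r B⁆ = xe E6.good k (e * A * B) := by
  obtain ⟨⟨k', C, i, j⟩, hx, hval⟩ := List.map_eq_singleton_iff.1 hterm
  simp only [Prod.mk.injEq] at hval
  obtain ⟨rfl, hC, rfl, rfl⟩ := hval
  refine ⟨-(C : K), by rw [neg_mul_neg, ← Int.cast_mul, hC, Int.cast_one], fun A B => ?_⟩
  rw [comm_word hr hs h1 h2, wordG, ChevalleyDatum.commWord, hx, List.map_singleton, List.map_singleton,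
    List.prod_singleton, xe_eq_xg E6.good]
  congr 1
  ring

/-- Root elements commute when the formula has no terms. -/
theorem commute_of_nil {r s : ℕ} (hr : r < chevE6.nroots) (hs : s < chevE6.nroots) (h1 : s ≠ r)
    (h2 : s ≠ chevE6.neg r) (h : chevE6.commTerms r s = []) (A B : K) :
    Commute (xe E6.good s A) (xe E6.good r B) := by
  rw [← commutatorElement_eq_one_iff_commute, comm_word hr hs h1 h2, wordG, ChevalleyDatum.commWord, h]
  rfl

/-- The fixed parts of two orbits without commutator terms commute. -/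
theorem commute_X' {o o' : Fin 48} (h : ∀ r ∈ orbRoots o, ∀ s ∈ orbRoots o',
      r ≠ s ∧ r ≠ chevE6.neg s ∧ chevE6.commTerms s r = []) :
    ∀ x ∈ (tw2E6 φ).X' o, ∀ y ∈ (tw2E6 φ).X' o', Commute x y := by
  intro x hx y hy
  have h1 : (tw2E6 φ).Xorb o ≤ Subgroup.centralizer ((tw2E6 φ).Xorb o' : Set (GL chevE6.Idx K)) := by
    refine iSup₂_le fun r hr z hz => ?_
    obtain ⟨t, rfl⟩ := (mem_rootSubgroup E6.good r.2).1 hz
    rw [Subgroup.mem_centralizer_iff]
    intro w hw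
    have h2 : (tw2E6 φ).Xorb o' ≤ Subgroup.centralizer {xe E6.good r.val t} := iSup₂_le fun s hs v hv => by
      obtain ⟨u, rfl⟩ := (mem_rootSubgroup E6.good s.2).1 hv
      obtain ⟨n1, n2, n3⟩ := h r.val (mem_orbRoots r.2 hr) s.val (mem_orbRoots s.2 hs)
      rw [Subgroup.mem_centralizer_singleton_iff]
      exact (commute_of_nil s.2 r.2 n1 n2 n3 t u).eq.symm
    exact Subgroup.mem_centralizer_singleton_iff.1 (h2 hw)
  exact ((Subgroup.mem_centralizer_iff.1 (h1 hx.1)) y hy.1).symm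

theorem long_check : (∀ r < chevE6.nroots, orbO r = orbO 47 → r = 47) ∧
    graphE6.rho.getD 46 0 = 46 ∧ graphE6.rho.getD 39 0 = 39 ∧
    (chevE6.commTerms 39 46).map (fun x => (x.1, x.2.1 * x.2.1, x.2.2)) = [(47, 1, 1, 1)] ∧
    (∀ r ∈ orbRoots (orbO 47), ∀ s ∈ orbRoots (orbO 46) ++ orbRoots (orbO 39),
      r ≠ s ∧ r ≠ chevE6.neg s ∧ chevE6.commTerms s r = []) ∧
    chevE6.simple 1 = 46 ∧ chevE6.simple 3 = 39 ∧ (46 : ℕ) ≠ chevE6.neg 39 := by decide +kernel

theorem short_check : (∀ r < chevE6.nroots, orbO r = orbO 57 → r = 57 ∨ r = 38) ∧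
    graphE6.rho.getD 38 0 = 57 ∧ chevE6.cartan 4 57 = 0 ∧ chevE6.cartan 4 38 = 1 ∧
    (chevE6.commTerms 42 56).map (fun x => (x.1, x.2.1 * x.2.1, x.2.2)) = [(57, 1, 1, 1)] ∧
    (chevE6.commTerms 37 36).map (fun x => (x.1, x.2.1 * x.2.1, x.2.2)) = [(38, 1, 1, 1)] ∧
    (∀ p ∈ [((56 : ℕ), (37 : ℕ)), (36, 42), (56, 36), (42, 37), (57, 38), (56, 38), (36, 57), (42, 38),
        (37, 57), (57, 37), (57, 36), (38, 56), (38, 42)],
      p.1 ≠ p.2 ∧ p.1 ≠ chevE6.neg p.2 ∧ chevE6.commTerms p.2 p.1 = []) ∧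
    (∀ r ∈ orbRoots (orbO 57), ∀ s ∈ orbRoots (orbO 56) ++ orbRoots (orbO 42),
      r ≠ s ∧ r ≠ chevE6.neg s ∧ chevE6.commTerms s r = []) ∧
    chevE6.simple 0 = 56 ∧ chevE6.simple 5 = 36 ∧ chevE6.simple 2 = 42 ∧ chevE6.simple 4 = 37 ∧
    (56 : ℕ) ≠ chevE6.neg 42 ∧ (36 : ℕ) ≠ chevE6.neg 37 := by decide +kernel

theorem orb_simp_check : orbO 46 = orbE6.simpF 48 4 0 ∧ orbO 39 = orbE6.simpF 48 4 1 ∧
    orbO 42 = orbE6.simpF 48 4 2 ∧ orbO 56 = orbE6.simpF 48 4 3 := by decide +kernel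

/-- The long class of the sum of two long simple roots consists of commutators. -/
theorem mem_long {y : GL chevE6.Idx K} (hy : y ∈ (tw2E6 φ).X' (orbO 47)) :
    ∃ a ∈ (tw2E6 φ).X' (orbO 46), ∃ b ∈ (tw2E6 φ).X' (orbO 39), y = ⁅a, b⁆ := by
  obtain ⟨h1, r46, r39, hterm, -, s46, s39, hne⟩ := long_check
  obtain ⟨w, rfl⟩ : ∃ w, xe E6.good 47 w = y := by
    have hle : (tw2E6 φ).Xorb (orbO 47) ≤ chevE6.rootSubgroup K 47 := iSup₂_le fun r hr z hz => by
      have hz' : z ∈ chevE6.rootSubgroup K r.val := hz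
      rwa [h1 r.val r.2 hr] at hz'
    obtain ⟨w, e⟩ := (mem_rootSubgroup E6.good (show 47 < chevE6.nroots by decide)).1 (hle hy.1)
    exact ⟨w, e.symm⟩
  obtain ⟨e, he, hcomm⟩ := comm_single (K := K) (r := 39) (s := 46) (k := 47) (show 39 < chevE6.nroots by decide) (show 46 < chevE6.nroots by decide) (by norm_num) hne hterm
  have hσ : ∀ k r, k < chevE6.rank → chevE6.simple k = r → graphE6.rho.getD r 0 = r → ∀ t : K,
      (tw2E6 φ).σ (xe E6.good r t) = xe E6.good r (φ t) := by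
    intro k r hk hkr hr t
    have h := GraphTab.aut_xe_simple E6.good orbE6_ok.1 graphE6_cols φ hk (Or.inl rfl) (t := t)
    rw [hkr, hr] at h
    exact h
  have hy47 : xe E6.good 47 w = ⁅xe E6.good 46 (e * w), xe E6.good 39 (1 : K)⁆ := by
    rw [hcomm, ← mul_assoc, he, one_mul, mul_one]
  have h46 : φ (e * w) = e * w := by
    have hfix := RootBN.Twist.mem_Fix.1 hy.2
    rw [hy47, map_commutatorElement, hσ 1 46 (by decide) s46 r46, hσ 3 39 (by decide) s39 r39, map_one, hcomm,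
      hcomm, mul_one, mul_one] at hfix
    have h := xe_inj E6.good facts_chevE6 (show 47 < chevE6.nroots by decide) hfix
    exact mul_left_cancel₀ (left_ne_zero_of_mul_eq_one he) h
  refine ⟨_, ⟨RootBN.Twist.X_le_Xorb (T := tw2E6 φ) (r := ⟨46, show 46 < chevE6.nroots by decide⟩) rfl
    ((mem_rootSubgroup E6.good (show 46 < chevE6.nroots by decide)).2 ⟨_, rfl⟩), ?_⟩, _,
    ⟨RootBN.Twist.X_le_Xorb (T := tw2E6 φ) (r := ⟨39, show 39 < chevE6.nroots by decide⟩) rfl
    ((mem_rootSubgroup E6.good (show 39 < chevE6.nroots by decide)).2 ⟨_, rfl⟩), ?_⟩, hy47⟩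
  · exact RootBN.Twist.mem_Fix.2 (by rw [hσ 1 46 (by decide) s46 r46, h46])
  · exact RootBN.Twist.mem_Fix.2 (by rw [hσ 3 39 (by decide) s39 r39, map_one])

/-- The short class of the sum of two short simple roots consists of commutators. -/
theorem mem_short {t₀ : K} (ht0 : t₀ ≠ 0) (ht1 : t₀ ≠ 1) (hinv : ∀ x, φ (φ x) = x) {y : GL chevE6.Idx K}
    (hy : y ∈ (tw2E6 φ).X' (orbO 57)) :
    ∃ a ∈ (tw2E6 φ).X' (orbO 56), ∃ b ∈ (tw2E6 φ).X' (orbO 42), y = ⁅a, b⁆ := by
  obtain ⟨h1, r38, c57, c38, t1, t2, hcom, -, s56, s36, s42, s37, hne, hne'⟩ := short_check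
  obtain ⟨-, -, o42, o56⟩ := orb_simp_check
  have com : ∀ s r : ℕ, (s, r) ∈ [((56 : ℕ), (37 : ℕ)), (36, 42), (56, 36), (42, 37), (57, 38), (56, 38), (36, 57),
      (42, 38), (37, 57), (57, 37), (57, 36), (38, 56), (38, 42)] → ∀ A B : K,
      Commute (xe E6.good s A) (xe E6.good r B) := fun s r h A B => by
    obtain ⟨n1, n2, n3⟩ := hcom (s, r) h
    refine commute_of_nil ?_ ?_ n1 n2 n3 A B <;>
      · simp only [List.mem_cons, List.not_mem_nil, or_false, Prod.mk.injEq] at h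
        rcases h with ⟨rfl, rfl⟩ | ⟨rfl, rfl⟩ | ⟨rfl, rfl⟩ | ⟨rfl, rfl⟩ | ⟨rfl, rfl⟩ | ⟨rfl, rfl⟩ | ⟨rfl, rfl⟩ |
          ⟨rfl, rfl⟩ | ⟨rfl, rfl⟩ | ⟨rfl, rfl⟩ | ⟨rfl, rfl⟩ | ⟨rfl, rfl⟩ | ⟨rfl, rfl⟩
        all_goals decide
  obtain ⟨w, w', rfl⟩ : ∃ w w', xe E6.good 57 w * xe E6.good 38 w' = y := by
    let S : Subgroup (GL chevE6.Idx K) :=
      { carrier := {y | ∃ w w', xe E6.good 57 w * xe E6.good 38 w' = y}
        one_mem' := ⟨0, 0, by rw [xe_zero E6.good (show 57 < chevE6.nroots by decide), xe_zero E6.good (show 38 < chevE6.nroots by decide), one_mul]⟩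
        mul_mem' := by
          rintro _ _ ⟨a, a', rfl⟩ ⟨b, b', rfl⟩
          refine ⟨a + b, a' + b', ?_⟩
          rw [← xe_add E6.good (show 57 < chevE6.nroots by decide), ← xe_add E6.good (show 38 < chevE6.nroots by decide), mul_assoc (xe E6.good 57 a),
            ← mul_assoc (xe E6.good 57 b), (com 57 38 (by simp) b a').eq]
          simp only [mul_assoc]
        inv_mem' := by
          rintro _ ⟨a, a', rfl⟩
          exact ⟨-a, -a', by rw [mul_inv_rev, xe_inv E6.good (show 57 < chevE6.nroots by decide), xe_inv E6.good (show 38 < chevE6.nroots by decide),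
            (com 57 38 (by simp) _ _).eq]⟩ }
    refine (show (tw2E6 φ).Xorb (orbO 57) ≤ S from iSup₂_le fun r hr z hz => ?_) hy.1
    obtain ⟨t, rfl⟩ := (mem_rootSubgroup E6.good r.2).1 hz
    rcases h1 r.val r.2 hr with e | e <;> rw [e]
    · exact ⟨t, 0, by rw [xe_zero E6.good (show 38 < chevE6.nroots by decide), mul_one]⟩
    · exact ⟨0, t, by rw [xe_zero E6.good (show 57 < chevE6.nroots by decide), one_mul]⟩
  obtain ⟨e, he, hA⟩ := comm_single (K := K) (r := 42) (s := 56) (k := 57) (show 42 < chevE6.nroots by decide) (show 56 < chevE6.nroots by decide) (by norm_num) hne t1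
  obtain ⟨e', -, hB⟩ := comm_single (K := K) (r := 37) (s := 36) (k := 38) (show 37 < chevE6.nroots by decide) (show 36 < chevE6.nroots by decide) (by norm_num) hne' t2
  set A := xe E6.good 56 (e * w) * xe E6.good 36 (φ (e * w)) with hAdef
  set B := xe E6.good 42 (1 : K) * xe E6.good 37 1 with hBdef
  have hAm : A ∈ (tw2E6 φ).X' (orbO 56) := by
    rw [o56]
    refine (mem_X'_simp_iff E6.good orbE6_ok φ facts_chevE6 negTri_chevE6 graphE6_cols 3).2
      ⟨fun k => if k = 0 then e * w else φ (e * w), ?_, ?_⟩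
    · intro k hk
      rw [show orbE6.Jl 4 3 = [0, 5] from rfl] at hk
      simp only [List.mem_cons, List.not_mem_nil, or_false] at hk
      rcases hk with rfl | rfl
      · rfl
      · exact (hinv _).symm
    · rw [show orbE6.Jl 4 3 = [0, 5] from rfl, hAdef, pv]
      simp [s56, s36]
  have hBm : B ∈ (tw2E6 φ).X' (orbO 42) := by
    rw [o42]
    refine (mem_X'_simp_iff E6.good orbE6_ok φ facts_chevE6 negTri_chevE6 graphE6_cols 2).2
      ⟨fun _ => 1, fun k _ => (map_one φ).symm, ?_⟩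
    rw [show orbE6.Jl 4 2 = [2, 4] from rfl, hBdef, pv]
    simp [s42, s37]
  refine ⟨A, hAm, B, hBm, ?_⟩
  -- the commutator
  have hAB : ⁅A, B⁆ = xe E6.good 57 w * xe E6.good 38 (e' * φ (e * w)) := by
    set a := xe E6.good 56 (e * w)
    set a' := xe E6.good 36 (φ (e * w))
    set b := xe E6.good 42 (1 : K)
    set b' := xe E6.good 37 (1 : K)
    have hab : ⁅a, b⁆ = xe E6.good 57 w := by rw [hA, mul_one, ← mul_assoc, he, one_mul]
    have hab' : ⁅a', b'⁆ = xe E6.good 38 (e' * φ (e * w)) := by rw [hB, mul_one]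
    rw [← hab, ← hab']
    have k1 : Commute a b' := com 56 37 (by simp) _ _
    have k2 : Commute a' b := com 36 42 (by simp) _ _
    have k3 : Commute a a' := com 56 36 (by simp) _ _
    have k4 : Commute b b' := com 42 37 (by simp) _ _
    have hd : Commute a ⁅a', b'⁆ := by
      rw [commutatorElement_def]
      exact ((k3.mul_right k1).mul_right k3.inv_right).mul_right k1.inv_right
    have hd' : Commute b ⁅a', b'⁆ := by
      rw [commutatorElement_def]
      exact ((k2.symm.mul_right k4).mul_right k2.symm.inv_right).mul_right k4.inv_right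
    calc ⁅a * a', b * b'⁆ = a * (a' * b) * b' * a'⁻¹ * a⁻¹ * b'⁻¹ * b⁻¹ := by
          simp only [commutatorElement_def]; group
      _ = a * b * (a' * b' * a'⁻¹) * (a⁻¹ * b'⁻¹) * b⁻¹ := by rw [k2.eq]; group
      _ = a * b * (a' * b' * a'⁻¹ * b'⁻¹) * a⁻¹ * b⁻¹ := by rw [k1.inv_inv.eq]; group
      _ = a * b * ⁅a', b'⁆ * (b * a)⁻¹ := by rw [commutatorElement_def a' b']; group
      _ = a * b * (⁅a', b'⁆ * (b * a)⁻¹) := by group
      _ = a * b * ((b * a)⁻¹ * ⁅a', b'⁆) := by rw [((hd'.mul_left hd).inv_left).symm.eq]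
      _ = ⁅a, b⁆ * ⁅a', b'⁆ := by simp only [commutatorElement_def]; group
  -- a fixed element of the conjugate root subgroup is trivial
  have hz : xe E6.good 38 (w' - e' * φ (e * w)) = 1 := by
    have hmem : xe E6.good 38 (w' - e' * φ (e * w)) ∈ (tw2E6 φ).Fix := by
      have h : (xe E6.good 57 w * xe E6.good 38 (e' * φ (e * w)))⁻¹ * (xe E6.good 57 w * xe E6.good 38 w') =
          xe E6.good 38 (w' - e' * φ (e * w)) := by
        rw [mul_inv_rev, mul_assoc, inv_mul_cancel_left, xe_inv E6.good (show 38 < chevE6.nroots by decide), xe_add E6.good (show 38 < chevE6.nroots by decide)]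
        congr 1
        ring
      rw [← h, ← hAB]
      exact Subgroup.mul_mem _ (Subgroup.inv_mem _ (RootBN.Twist.mem_Fix.2 (by
        rw [map_commutatorElement, RootBN.Twist.mem_Fix.1 hAm.2, RootBN.Twist.mem_Fix.1 hBm.2]))) hy.2
    obtain ⟨d, -, hd⟩ := GraphTab.exists_aut_xe (F := K) E6.good facts_chevE6 orbE6_ok.1 graphE6_cols φ (show 38 < chevE6.nroots by decide)
    set z := w' - e' * φ (e * w)
    have hfix : xe E6.good 57 (d * φ z) = xe E6.good 38 z := by
      rw [← r38]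
      exact (hd z).symm.trans (RootBN.Twist.mem_Fix.1 hmem)
    -- separate the two roots
    let c : Fin chevE6.rank → Kˣ := Pi.mulSingle ⟨4, by decide⟩ (Units.mk0 t₀ ht0)
    have hc : ∀ r, torusChar chevE6 c r = Units.mk0 t₀ ht0 ^ chevE6.cartan 4 r := fun r => by
      rw [torusChar, Finset.prod_eq_single ⟨4, by decide⟩]
      · simp [c]
      · intro j _ hj; simp [c, Pi.mulSingle_eq_of_ne hj]
      · simp
    have h57 := torusHom_conj E6.good c 57 (show 57 < chevE6.nroots by decide) (d * φ z)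
    have h38 := torusHom_conj E6.good c 38 (show 38 < chevE6.nroots by decide) z
    rw [hc, c57, zpow_zero, Units.val_one, one_mul, hfix, h38, hc, c38, zpow_one, Units.val_mk0] at h57
    have := xe_inj E6.good facts_chevE6 (show 38 < chevE6.nroots by decide) h57
    rw [(mul_left_eq_self₀.1 this).resolve_left ht1, xe_zero E6.good (show 38 < chevE6.nroots by decide)]
  rw [hAB]
  congr 1
  have := congrArg (fun g => xe E6.good 38 (e' * φ (e * w)) * g) hz
  simp only [mul_one, xe_add E6.good (show 38 < chevE6.nroots by decide), add_sub_cancel] at this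
  exact this

end Cfsg.Agent.Twisted.E6Mult
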