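/-
²E₆(q), q ≥ 3: the unipotent group lifts through every central extension, so the kernel of a stem extension
has order prime to the characteristic.
-/
import Cfsg.Agent.Lib.Twisted.E6Mult.Comm
import Cfsg.Agent.Lib.Chev.TwistOrderE6
import Cfsg.Agent.Lib.Chev.TwistSimpleE6
import Cfsg.Agent.Lib.Schur.SylowLocal

set_option autoImplicit false

namespace Cfsg.Agent.Twisted.E6Mult

open Cfsg.Lie Cfsg.Agent.Chev Cfsg.Agent.Chev.BNSetup
open Cfsg.Agent.RootBN (Data)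
open Cfsg.Agent.Schur.RootLift
open scoped commutatorElement

theorem gen_words : (orbE6.reflF 48 4 1 (orbE6.simpF 48 4 0) = orbO 47) ∧
    (orbE6.reflF 48 4 0 (orbE6.simpF 48 4 1) = orbO 47) ∧
    (orbE6.reflF 48 4 3 (orbE6.simpF 48 4 2) = orbO 57) ∧
    (orbE6.reflF 48 4 2 (orbE6.simpF 48 4 3) = orbO 57) := by decide +kernel

variable {K : Type*} [Field K] [Fintype K] {q : ℕ} (hK : Fintype.card K = q ^ 2) (hq3 : 3 ≤ q)
  {φ : K ≃+* K} (hφ : ∀ x, φ x = x ^ q) (hinv : ∀ x, φ (φ x) = x)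
  {E : Type*} [Group E] {π : E →* GL chevE6.Idx K} (hrange : (tw2E6 φ).Gt ≤ π.range)
  (hz : π.ker ≤ Subgroup.center E)

include hrange hz in
/-- Lifts commute on a class generated by commutators of two classes commuting with it. -/
theorem lift_comm_of_gen {o oa ob : Fin 48}
    (hca : ∀ x ∈ (tw2E6 φ).X' oa, ∀ y ∈ (tw2E6 φ).X' o, Commute x y)
    (hcb : ∀ x ∈ (tw2E6 φ).X' ob, ∀ y ∈ (tw2E6 φ).X' o, Commute x y)
    (hgen : ∀ y ∈ (tw2E6 φ).X' o, ∃ a ∈ (tw2E6 φ).X' oa, ∃ b ∈ (tw2E6 φ).X' ob, y = ⁅a, b⁆)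
    {u v : E} (hu : π u ∈ (tw2E6 φ).X' o) (hv : π v ∈ (tw2E6 φ).X' o) : ⁅u, v⁆ = 1 := by
  obtain ⟨a, ha, b, hb, e⟩ := hgen _ hv
  obtain ⟨x, hx⟩ := hrange (RootBN.Twist.X'_le_Gt _ ha)
  obtain ⟨y, hy⟩ := hrange (RootBN.Twist.X'_le_Gt _ hb)
  rw [Schur.commutatorElement_congr hz rfl (show π v = π ⁅x, y⁆ by rw [map_commutatorElement, hx, hy, e]),
    commutatorElement_eq_one_iff_mul_comm]
  have h : ∀ z, π z * π u = π u * π z → π (u * z * u⁻¹) = π z := fun z h => by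
    rw [map_mul, map_mul, map_inv, ← h, mul_inv_cancel_right]
  have hxy : ⁅u * x * u⁻¹, u * y * u⁻¹⁆ = ⁅x, y⁆ := Schur.commutatorElement_congr hz
    (h x (by rw [hx]; exact hca _ ha _ hu)) (h y (by rw [hy]; exact hcb _ hb _ hu))
  calc u * ⁅x, y⁆ = ⁅u * x * u⁻¹, u * y * u⁻¹⁆ * u := by simp only [commutatorElement_def]; group
    _ = ⁅x, y⁆ * u := by rw [hxy]

include hrange hz in
/-- Lifts of a class conjugate to one whose lifts commute. -/
theorem lift_comm_transport (i : Fin 4) {o o' : Fin 48} (h : (tw2E6 φ).refl' i o = o')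
    (hc : ∀ u v, π u ∈ (tw2E6 φ).X' o' → π v ∈ (tw2E6 φ).X' o' → ⁅u, v⁆ = 1)
    {u v : E} (hu : π u ∈ (tw2E6 φ).X' o) (hv : π v ∈ (tw2E6 φ).X' o) : ⁅u, v⁆ = 1 := by
  have hT := tw2E6_axioms φ
  obtain ⟨n, hn⟩ := hrange (hT.nn'_mem i)
  have hm : ∀ z, π z ∈ (tw2E6 φ).X' o → π (n * z * n⁻¹) ∈ (tw2E6 φ).X' o' := fun z hz' => by
    rw [map_mul, map_mul, map_inv, hn, ← h]
    exact RootBN.Twist.conj_X' hT hz'
  have := hc _ _ (hm u hu) (hm v hv)
  calc ⁅u, v⁆ = n⁻¹ * ⁅n * u * n⁻¹, n * v * n⁻¹⁆ * n := by simp only [commutatorElement_def]; group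
    _ = 1 := by rw [this, mul_one, inv_mul_cancel]

include hK hq3 hinv hrange hz in
/-- Lifts of the elements of a simple class commute. -/
theorem lift_comm_simple (j : Fin 4) {u v : E} (hu : π u ∈ (tw2E6 φ).X' (orbE6.simpF 48 4 j))
    (hv : π v ∈ (tw2E6 φ).X' (orbE6.simpF 48 4 j)) : ⁅u, v⁆ = 1 := by
  classical
  obtain ⟨w0, w1, w2, w3⟩ := gen_words
  have hlong : ∀ u v, π u ∈ (tw2E6 φ).X' (orbO 47) → π v ∈ (tw2E6 φ).X' (orbO 47) → ⁅u, v⁆ = 1 := by
    have hc := long_check.2.2.2.2.1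
    exact fun u v => lift_comm_of_gen hrange hz
      (fun x hx y hy => (commute_X' φ (fun r hr s hs => hc r hr s (List.mem_append_left _ hs)) y hy x hx).symm)
      (fun x hx y hy => (commute_X' φ (fun r hr s hs => hc r hr s (List.mem_append_right _ hs)) y hy x hx).symm)
      (fun y hy => mem_long φ hy)
  have hshort : ∀ u v, π u ∈ (tw2E6 φ).X' (orbO 57) → π v ∈ (tw2E6 φ).X' (orbO 57) → ⁅u, v⁆ = 1 := by
    obtain ⟨-, -, -, -, -, -, -, hc, -⟩ := short_check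
    obtain ⟨t₀, ht, ht1⟩ : ∃ t₀ : K, t₀ ≠ 0 ∧ t₀ ≠ 1 := by
      have h3 : 3 ≤ Fintype.card K := by rw [hK]; nlinarith
      obtain ⟨x, -, hx⟩ := Finset.exists_mem_notMem_of_card_lt_card
        (show ({0, 1} : Finset K).card < (Finset.univ : Finset K).card from Finset.card_le_two.trans_lt h3)
      simp only [Finset.mem_insert, Finset.mem_singleton, not_or] at hx
      exact ⟨x, hx.1, hx.2⟩
    exact fun u v => lift_comm_of_gen hrange hz
      (fun x hx y hy => (commute_X' φ (fun r hr s hs => hc r hr s (List.mem_append_left _ hs)) y hy x hx).symm)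
      (fun x hx y hy => (commute_X' φ (fun r hr s hs => hc r hr s (List.mem_append_right _ hs)) y hy x hx).symm)
      (fun y hy => mem_short φ ht ht1 hinv hy)
  fin_cases j
  exacts [lift_comm_transport hrange hz 1 w0 hlong hu hv, lift_comm_transport hrange hz 0 w1 hlong hu hv,
    lift_comm_transport hrange hz 3 w2 hshort hu hv, lift_comm_transport hrange hz 2 w3 hshort hu hv]

variable [Finite E]
include hK hq3 hφ hinv hrange hz

/-- Lifts of the simple classes, normalised by the torus. -/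
theorem exists_simple_lift (j : Fin 4) : ∃ S : Subgroup E, IsLift π ((tw2E6 φ).X' (orbE6.simpF 48 4 j)) S ∧
    ∀ g, π g ∈ (tw2E6 φ).data.H → ∀ s ∈ S, g * s * g⁻¹ ∈ S := by
  classical
  set X := (tw2E6 φ).X' (orbE6.simpF 48 4 j) with hX
  have hT := tw2E6_axioms φ
  have ax := RootBN.Twist.data_axioms hT
  have hXr : X ≤ π.range := (RootBN.Twist.X'_le_Gt _).trans hrange
  haveI : Finite ↥X := Finite.of_injective (fun x : X => (x : GL chevE6.Idx K)) Subtype.val_injective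
  obtain ⟨t, ht, hfpf⟩ := exists_fpf hK hq3 hφ hinv j
  obtain ⟨h, hh⟩ := hrange ht.2
  have hconj : ∀ {g}, g ∈ (tw2E6 φ).data.H → ∀ x ∈ X, g * x * g⁻¹ ∈ X := fun hg x hx =>
    ax.H_conj _ _ hg x hx
  have hbot : ∀ {g : E}, ∀ s ∈ (⊥ : Subgroup E), g * s * g⁻¹ ∈ (⊥ : Subgroup E) := fun {g} s hs => by
    rw [Subgroup.mem_bot.1 hs, mul_one, mul_inv_cancel]; exact Subgroup.one_mem _
  obtain ⟨S, hS, -, hn⟩ := exists_lift π hz (X := X) (h := h) hXr bot_le isLift_bot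
    (fun a b ha hb => Subgroup.mem_bot.2 (lift_comm_simple hK hq3 hinv hrange hz j ha hb))
    (fun x hx => by rw [hh]; exact hconj ht x hx) hbot
    (fun x hx hd => by
      rw [hh, Subgroup.mem_bot, commutatorElement_eq_one_iff_mul_comm] at hd
      exact Subgroup.mem_bot.2 (hfpf x hx (by rw [hd, mul_inv_cancel_right])))
  refine ⟨S, hS, fun g hg => hn g (hconj hg) hbot ?_⟩
  rw [hh]
  have hd : (tw2E6 φ).data.H ≤ chevE6.diagonalSubgroup K := inf_le_left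
  obtain ⟨c, hc⟩ := (diagonal_eq_range (F := K) E6.good).le (hd hg)
  obtain ⟨c', hc'⟩ := (diagonal_eq_range (F := K) E6.good).le (hd ht)
  rw [← hc, ← hc', ← map_mul, ← map_mul, mul_comm]

/-- The unipotent group lifts. -/
theorem exists_lift_U : ∃ S : Subgroup E, IsLift π (tw2E6 φ).data.U S := by
  classical
  have hT := tw2E6_axioms φ
  have ax := RootBN.Twist.data_axioms hT
  have hch := chainData φ
  choose S₀ hS₀ hn₀ using exists_simple_lift hK hq3 hφ hinv hrange hz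
  choose l cj hl using fun i => ax.reach (pos i)
  choose ν hν using fun i => hrange (Data.N_le_grp ax (Data.nw_mem_N (l i)))
  let X : ℕ → Subgroup (GL chevE6.Idx K) := fun i => (tw2E6 φ).X' (pos i)
  let S : ℕ → Subgroup E := fun i => (S₀ (cj i)).map (MulAut.conj (ν i)).toMonoidHom
  have hXmap : ∀ i, X i = ((tw2E6 φ).X' (orbE6.simpF 48 4 (cj i))).map
      (MulAut.conj ((tw2E6 φ).data.nw (l i))).toMonoidHom := fun i => by
    ext y
    rw [Subgroup.mem_map_equiv]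
    show y ∈ (tw2E6 φ).X' (pos i) ↔ _
    rw [← hl i]
    have := Data.acts_nw ax (l i) ((tw2E6 φ).simp' (cj i))
      (((tw2E6 φ).data.nw (l i))⁻¹ * y * (tw2E6 φ).data.nw (l i))
    rw [show ((tw2E6 φ).data.nw (l i)) * (((tw2E6 φ).data.nw (l i))⁻¹ * y * (tw2E6 φ).data.nw (l i)) *
      ((tw2E6 φ).data.nw (l i))⁻¹ = y by group] at this
    exact this
  have hS : ∀ a < 24, IsLift π (X a) (S a) := by
    intro a _
    refine ⟨?_, ?_⟩
    · rw [hXmap, ← (hS₀ (cj a)).map_eq, Subgroup.map_map, Subgroup.map_map]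
      congr 1
      ext x
      simp [hν]
    · rw [eq_bot_iff]
      rintro _ ⟨⟨s, hs, rfl⟩, hk⟩
      have hk' : π (ν a * s * (ν a)⁻¹) = 1 := hk
      rw [map_mul, map_mul, map_inv, conj_eq_one_iff] at hk'
      rw [(hS₀ _).eq_one hs hk', map_one]
      exact Subgroup.one_mem _
  have hHh : ∀ g ∈ {g : E | π g ∈ (tw2E6 φ).data.H}, ∀ a < 24, ∀ s ∈ S a, g * s * g⁻¹ ∈ S a := by
    rintro g hg a - s ⟨s₀, hs₀, rfl⟩
    set v := ν a
    refine ⟨(v⁻¹ * g * v) * s₀ * (v⁻¹ * g * v)⁻¹, hn₀ _ _ ?_ _ hs₀, ?_⟩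
    · show π (v⁻¹ * g * v) ∈ (tw2E6 φ).data.H
      rw [map_mul, map_mul, map_inv, hν]
      have := Data.N_conj_H ax ((tw2E6 φ).data.N.inv_mem (Data.nw_mem_N (l a))) hg
      rwa [inv_inv] at this
    · show v * (v⁻¹ * g * v * s₀ * (v⁻¹ * g * v)⁻¹) * v⁻¹ = g * (v * s₀ * v⁻¹) * g⁻¹
      group
  have hVU : V X 0 24 = (tw2E6 φ).data.U := by
    refine le_antisymm (iSup₂_le fun c hc => Data.X_le_U (D := (tw2E6 φ).data) (pos_pos ⟨c, hc.2⟩)) ?_
    refine iSup₂_le fun o ho => ?_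
    obtain ⟨c, hc, rfl⟩ := List.mem_map.1 (posList_eq_map ▸ pos_cover o ho)
    exact le_V X (Nat.zero_le c) (List.mem_range.1 hc)
  refine ⟨V S 0 24, hVU ▸ interval_lift hz X S {g : E | π g ∈ (tw2E6 φ).data.H} hS hHh
    (hch.comm' hT) (fun a b h1 h2 => hch.disjoint' hT h1 h2) fun a b hab hb => ?_⟩
  obtain ⟨t, ht, h1, h2⟩ := exists_sep hK hq3 hφ hinv (a := ⟨a, by omega⟩) (b := ⟨b, hb⟩)
    (by intro e; simp at e; omega)
  obtain ⟨g, hg⟩ := hrange ht.2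
  refine ⟨g, show π g ∈ (tw2E6 φ).data.H from hg.symm ▸ ht, hg.symm ▸ h1, fun y hy => ?_⟩
  rw [hg]
  haveI : Finite ↥(X b) := Finite.of_injective (fun x : X b => (x : GL chevE6.Idx K)) Subtype.val_injective
  let f : X b → X b := fun x => ⟨⁅t, (x : GL chevE6.Idx K)⁆, by
    rw [commutatorElement_def]
    exact (X b).mul_mem (ax.H_conj _ _ ht _ x.2) ((X b).inv_mem x.2)⟩
  have hf : Function.Injective f := fun x x' e => by
    have e' : ⁅t, (x : GL chevE6.Idx K)⁆ = ⁅t, (x' : GL chevE6.Idx K)⁆ := congrArg Subtype.val e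
    simp only [commutatorElement_def] at e'
    have hA : ∀ z ∈ X b, ∀ z' ∈ X b, z * z' = z' * z := by
      intro z hz1 z' hz2
      obtain ⟨u, hu⟩ := hrange (RootBN.Twist.X'_le_Gt _ hz1)
      obtain ⟨u', hu'⟩ := hrange (RootBN.Twist.X'_le_Gt _ hz2)
      obtain ⟨y1, hy1, e1⟩ := (hXmap b).le hz1
      obtain ⟨y2, hy2, e2⟩ := (hXmap b).le hz2
      obtain ⟨w1, hw1⟩ := hrange (RootBN.Twist.X'_le_Gt _ hy1)
      obtain ⟨w2, hw2⟩ := hrange (RootBN.Twist.X'_le_Gt _ hy2)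
      have hc := congrArg π (lift_comm_simple hK hq3 hinv hrange hz (cj b) (u := w1) (v := w2)
        (hw1.symm ▸ hy1) (hw2.symm ▸ hy2))
      rw [map_commutatorElement, map_one, hw1, hw2, commutatorElement_eq_one_iff_mul_comm] at hc
      rw [← e1, ← e2, ← map_mul, ← map_mul, hc]
    refine Subtype.ext (mul_inv_eq_one.1 (h2 _ ((X b).mul_mem x.2 ((X b).inv_mem x'.2)) ?_))
    calc t * ((x : GL chevE6.Idx K) * (x' : GL chevE6.Idx K)⁻¹) * t⁻¹
        = (t * x * t⁻¹ * (x : GL chevE6.Idx K)⁻¹) * x * (t * x' * t⁻¹)⁻¹ := by group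
      _ = (t * x' * t⁻¹ * (x' : GL chevE6.Idx K)⁻¹) * x * (t * x' * t⁻¹)⁻¹ := by rw [e']
      _ = t * x' * t⁻¹ * ((x' : GL chevE6.Idx K)⁻¹ * x) * (t * x' * t⁻¹)⁻¹ := by group
      _ = ((x' : GL chevE6.Idx K)⁻¹ * x) := by
          rw [hA _ (ax.H_conj _ _ ht _ x'.2) _ ((X b).mul_mem ((X b).inv_mem x'.2) x.2), mul_inv_cancel_right]
      _ = _ := hA _ ((X b).inv_mem x'.2) _ x.2
  obtain ⟨y', hy'⟩ := Finite.injective_iff_surjective.1 hf ⟨y, hy⟩
  exact ⟨y', y'.2, 1, Subgroup.one_mem _, by rw [one_mul]; exact (congrArg Subtype.val hy').symm⟩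

end Cfsg.Agent.Twisted.E6Mult
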