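/-
²E₆(q), q ≥ 3: the kernel of a stem extension has order prime to the characteristic.
-/
import Cfsg.Agent.Lib.Twisted.E6Mult.Lift

set_option autoImplicit false

namespace Cfsg.Agent.Twisted.E6Mult

open Cfsg.Lie Cfsg.Agent.Chev Cfsg.Agent.Chev.BNSetup
open Cfsg.Agent.RootBN (Data)
open Cfsg.Agent.Schur.RootLift
open scoped commutatorElement

variable {K : Type*} [Field K] [Fintype K] {q : ℕ} (hK : Fintype.card K = q ^ 2)
  {φ : K ≃+* K} (hφ : ∀ x, φ x = x ^ q) (hinv : ∀ x, φ (φ x) = x)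
  (hcard : Nat.card {x : K // φ x = x} = q)
include hK hinv hcard

theorem card_U : Nat.card (tw2E6 φ).data.U = q ^ 36 := by
  have hT := tw2E6_axioms φ
  haveI : Nonempty (Fin 4) := ⟨0⟩
  rw [← RootBN.Twist.inf_Gt_U hT, data_U E6.good facts_chevE6]
  refine (card_U_inf E6.good orbE6_ok φ facts_chevE6 negTri_chevE6 graphE6_cols
    (card_X'_E6 hK hinv hcard) (0 : Fin 4)).trans ?_
  rfl

theorem isPGroup_U {p : ℕ} [Fact p.Prime] {k : ℕ} (hk : q = p ^ k) : IsPGroup p (tw2E6 φ).data.U :=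
  IsPGroup.of_card (n := k * 36) (by rw [card_U hK hinv hcard, hk, ← pow_mul])

include hφ

theorem exists_card_Gt {p : ℕ} (hp : p.Prime) (hpq : p ∣ q) :
    ∃ c, ¬ p ∣ c ∧ Nat.card (tw2E6 φ).Gt = q ^ 36 * c := by
  have hq : 0 < q := by
    rcases Nat.eq_zero_or_pos q with h | h
    · rw [h] at hK
      exact absurd hK Fintype.card_pos.ne'
    · exact h
  have h := card_twistedE6 hq hK hφ hinv hcard
  rw [mul_assoc (q ^ 36), poly_twLevelsE6 q hq] at h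
  have hsub : ∀ n, n ≠ 0 → ¬ p ∣ q ^ n - 1 := fun n hn hd => by
    have h1 : p ∣ q ^ n := dvd_pow hpq hn
    have h2 := (Nat.dvd_sub h1 hd)
    rw [Nat.sub_sub_self (Nat.one_le_pow _ _ hq)] at h2
    exact hp.not_dvd_one h2
  have hadd : ∀ n, n ≠ 0 → ¬ p ∣ q ^ n + 1 := fun n hn hd =>
    hp.not_dvd_one ((Nat.dvd_add_right (dvd_pow hpq hn)).1 hd)
  have hnd : ¬ p ∣ (q ^ 2 - 1) * (q ^ 5 + 1) * (q ^ 6 - 1) * (q ^ 8 - 1) * (q ^ 9 + 1) * (q ^ 12 - 1) := by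
    simp only [hp.dvd_mul, not_or]
    exact ⟨⟨⟨⟨⟨hsub 2 (by norm_num), hadd 5 (by norm_num)⟩, hsub 6 (by norm_num)⟩, hsub 8 (by norm_num)⟩,
      hadd 9 (by norm_num)⟩, hsub 12 (by norm_num)⟩
  set N := (q ^ 2 - 1) * (q ^ 5 + 1) * (q ^ 6 - 1) * (q ^ 8 - 1) * (q ^ 9 + 1) * (q ^ 12 - 1)
  have hd : q ^ 36 ∣ Nat.card (tw2E6 φ).Gt := by
    rw [← card_U hK hinv hcard]
    exact Subgroup.card_dvd_of_le (iSup₂_le fun o _ => RootBN.Twist.X'_le_Gt o)
  obtain ⟨c, hc⟩ := hd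
  refine ⟨c, fun hdc => hnd ?_, hc⟩
  rw [hc, mul_left_comm] at h
  exact (Nat.eq_of_mul_eq_mul_left (pow_pos hq _) h) ▸ dvd_mul_of_dvd_right hdc _

variable (hq3 : 3 ≤ q) {E : Type*} [Group E] [Finite E] {π : E →* GL chevE6.Idx K}
  (hπ : π.range = (tw2E6 φ).Gt) (hz : π.ker ≤ Subgroup.center E) (hc : π.ker ≤ commutator E)
include hq3 hπ hz hc

/-- The defining prime does not divide the order of the kernel. -/
theorem coprime_ker {p : ℕ} [hp : Fact p.Prime] {k : ℕ} (hk : q = p ^ k) :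
    Nat.Coprime p (Nat.card π.ker) := by
  classical
  obtain ⟨S, hS⟩ := exists_lift_U hK hq3 hφ hinv hπ.ge hz
  let σ : E →* ↥(tw2E6 φ).Gt := π.codRestrict _ fun x => hπ ▸ ⟨x, rfl⟩
  have hσ : Function.Surjective σ := fun ⟨y, hy⟩ => by
    obtain ⟨x, rfl⟩ : y ∈ π.range := hπ.symm ▸ hy
    exact ⟨x, rfl⟩
  have hpq : p ∣ q := by
    rw [hk]
    refine dvd_pow_self p ?_
    rintro rfl
    simp at hk
    omega
  have hUle : (tw2E6 φ).data.U ≤ (tw2E6 φ).Gt := iSup₂_le fun o _ => RootBN.Twist.X'_le_Gt o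
  let U := (tw2E6 φ).data.U.subgroupOf (tw2E6 φ).Gt
  have hUp : IsPGroup p U := (isPGroup_U hK hinv hcard hk).of_equiv (Subgroup.subgroupOfEquivOfLe hUle).symm
  have hidx : ¬ p ∣ U.index := by
    obtain ⟨c, hc', e⟩ := exists_card_Gt hK hφ hinv hcard hp.out hpq
    have h := Subgroup.card_mul_index U
    rw [Nat.card_congr (Subgroup.subgroupOfEquivOfLe hUle).toEquiv, card_U hK hinv hcard, e] at h
    rwa [Nat.eq_of_mul_eq_mul_left (pow_pos (by omega) _) h]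
  obtain ⟨P, hP⟩ := Schur.exists_sylow_map_eq σ hσ (hUp.toSylow hidx)
  have hS' : ∀ x ∈ (P : Subgroup E), ∃ s ∈ S, π s = π x := fun x hx => by
    have : σ x ∈ U := by
      have h := Subgroup.mem_map_of_mem σ hx
      rw [hP] at h
      exact h
    obtain ⟨s, hs, e⟩ := hS.map_eq.ge (this : π x ∈ (tw2E6 φ).data.U)
    exact ⟨s, hs, e⟩
  have hle : ⁅(P : Subgroup E), (P : Subgroup E)⁆ ≤ S := by
    rw [Subgroup.commutator_le]
    intro x hx y hy
    obtain ⟨s, hs, es⟩ := hS' x hx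
    obtain ⟨t, ht, et⟩ := hS' y hy
    rw [Schur.commutatorElement_congr hz es.symm et.symm, commutatorElement_def]
    exact S.mul_mem (S.mul_mem (S.mul_mem hs ht) (S.inv_mem hs)) (S.inv_mem ht)
  refine (Nat.Prime.coprime_iff_not_dvd hp.out).2 fun hd => ?_
  obtain ⟨x, hx⟩ := exists_prime_orderOf_dvd_card' p hd
  have h1 := Schur.pow_index_mem_commutator (P : Subgroup E) (hz x.2) (hc x.2)
  have h2 : (x : E) ^ (P : Subgroup E).index = 1 :=
    hS.eq_one (hle h1) (MonoidHom.mem_ker.1 (Subgroup.pow_mem _ x.2 _))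
  have h3 := orderOf_dvd_of_pow_eq_one h2
  rw [Subgroup.orderOf_coe, hx] at h3
  exact P.not_dvd_index h3

end Cfsg.Agent.Twisted.E6Mult
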