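/-
²E₆(q), q ≥ 3: the kernel of a stem extension has at most gcd(3, q + 1) elements and exponent dividing it.
-/
import Cfsg.Agent.Lib.Twisted.E6Mult.Defining
import Cfsg.Agent.Lib.Chev.TwistRankOne
import Cfsg.Agent.Lib.Chev.TwistTorusE6
import Cfsg.Agent.Lib.Schur.RootExtBound
import Cfsg.Agent.Lib.Schur.SL2Split

set_option autoImplicit false
set_option linter.style.haveILetI false

namespace Cfsg.Agent.Twisted.E6Mult

open Cfsg.Lie Cfsg.Agent.Chev Cfsg.Agent.Chev.BNSetup
open Cfsg.Agent.RootBN (Data)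
open scoped commutatorElement MatrixGroups

universe u

theorem disjoint_J : ∀ i : Fin 4, ∀ j : Fin 4, ∀ k ∈ orbE6.Jl 4 i, k ∈ orbE6.Jl 4 j → i = j := by
  decide +kernel

/-- Two elements of exponent `g` with central commutator: the product has exponent `g`, for `g` odd. -/
theorem mul_pow_eq_one {G : Type*} [Group G] {g : ℕ} (hg : g = 1 ∨ g = 3) {x y : G}
    (hc : ⁅y, x⁆ ∈ Subgroup.center G) (hx : x ^ g = 1) (hy : y ^ g = 1) : (x * y) ^ g = 1 := by
  rcases hg with rfl | rfl
  · simp only [pow_one] at hx hy ⊢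
    rw [hx, hy, one_mul]
  · have hcc : ∀ z : G, z * ⁅y, x⁆ = ⁅y, x⁆ * z := Subgroup.mem_center_iff.1 hc
    set c := ⁅y, x⁆ with hcdef
    have hyx : y * x = c * x * y := by rw [hcdef, commutatorElement_def]; group
    have h3 : c ^ 3 = 1 := by
      have e1 : ∀ n : ℕ, y ^ n * x = c ^ n * x * y ^ n := by
        intro n
        induction n with
        | zero => simp
        | succ n ih =>
          calc y ^ (n + 1) * x = y * (y ^ n * x) := by rw [pow_succ', mul_assoc]
            _ = (y * c ^ n) * x * y ^ n := by rw [ih]; group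
            _ = c ^ n * (y * x) * y ^ n := by
                rw [(Commute.pow_right (hcc y : Commute y c) n).eq]; group
            _ = c ^ (n + 1) * x * y ^ (n + 1) := by rw [hyx, pow_succ c, pow_succ' y]; group
      have := e1 3
      rw [hy, one_mul, mul_one] at this
      exact (mul_eq_right.1 this.symm)
    have hyx' : ∀ z, y * (x * z) = c * (x * (y * z)) := fun z => by
      rw [← mul_assoc, hyx, mul_assoc, mul_assoc]
    have hxc : ∀ z, x * (c * z) = c * (x * z) := fun z => by rw [← mul_assoc, hcc, mul_assoc]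
    have hyc : ∀ z, y * (c * z) = c * (y * z) := fun z => by rw [← mul_assoc, hcc, mul_assoc]
    have e : (x * y) ^ 3 = c ^ 3 * x ^ 3 * y ^ 3 := by
      simp only [pow_succ, pow_zero, one_mul, mul_assoc, hyx', hxc, hyc]
    rw [e, h3, hx, hy, one_mul, one_mul]

/-- Products of elements of exponent `g` whose images lie in an abelian group. -/
theorem prod_pow_eq_one {G M : Type*} [Group G] [Group M] {π : G →* M} (hz : π.ker ≤ Subgroup.center G)
    {H : Subgroup M} (hH : ∀ a ∈ H, ∀ b ∈ H, a * b = b * a) {g : ℕ} (hg : g = 1 ∨ g = 3) :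
    ∀ L : List G, (∀ x ∈ L, π x ∈ H ∧ x ^ g = 1) → π L.prod ∈ H ∧ L.prod ^ g = 1
  | [], _ => ⟨by rw [List.prod_nil, map_one]; exact H.one_mem, by simp⟩
  | x :: L, h => by
    obtain ⟨h1, h2⟩ := prod_pow_eq_one hz hH hg L fun y hy => h y (List.mem_cons_of_mem _ hy)
    obtain ⟨hx1, hx2⟩ := h x List.mem_cons_self
    rw [List.prod_cons]
    refine ⟨by rw [map_mul]; exact H.mul_mem hx1 h1, mul_pow_eq_one hg (hz ?_) hx2 h2⟩
    rw [MonoidHom.mem_ker, map_commutatorElement, commutatorElement_eq_one_iff_mul_comm]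
    exact hH _ h1 _ hx1

variable {K : Type u} [Field K] [Fintype K] {q : ℕ} (hK : Fintype.card K = q ^ 2)
  {φ : K ≃+* K} (hφ : ∀ x, φ x = x ^ q) (hinv : ∀ x, φ (φ x) = x)
  (hcard : Nat.card {x : K // φ x = x} = q) (hq3 : 3 ≤ q)
  {E : Type*} [Group E] [Finite E] {π : E →* GL chevE6.Idx K}
  (hπ : π.range = (tw2E6 φ).Gt) (hz : π.ker ≤ Subgroup.center E) (hc : π.ker ≤ commutator E)

include hK hφ hinv hcard hq3 hπ hz hc in
/-- The bound on the kernel. -/
theorem ker_bound {p k : ℕ} [hp : Fact p.Prime] (hk : q = p ^ k) :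
    Nat.card π.ker ≤ Nat.gcd 3 (q + 1) ∧ ∀ z ∈ π.ker, z ^ Nat.gcd 3 (q + 1) = 1 := by
  classical
  have hT := tw2E6_axioms φ
  have ax := RootBN.Twist.data_axioms hT
  have hq0 : 0 < q := by omega
  haveI : CharP K p := by
    haveI := ringChar.charP K
    obtain ⟨n, hr, hn⟩ := FiniteField.card K (ringChar K)
    rw [hK, hk, ← pow_mul] at hn
    have : p ∣ ringChar K ^ (n : ℕ) := hn ▸ dvd_pow_self p (by
      rintro h
      rw [Nat.mul_eq_zero] at h
      rcases h with rfl | h
      · simp at hk; omega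
      · omega)
    have h2 := (Nat.prime_dvd_prime_iff_eq hp.out hr).1 (hp.out.dvd_of_dvd_pow this)
    rwa [h2]
  have hgcd : Nat.gcd 3 (q + 1) = 1 ∨ Nat.gcd 3 (q + 1) = 3 :=
    (Nat.dvd_prime Nat.prime_three).1 (Nat.gcd_dvd_left 3 (q + 1))
  set g := Nat.gcd 3 (q + 1) with hgdef
  have hcardT := card_ker_inf_fixedTorusE6 hq0 hK hφ hinv
  rw [← hgdef] at hcardT
  have hodd : Odd (Nat.card ↥((torusHom K chevE6).ker ⊓ fixedTorus orbE6_ok φ)) := by
    rw [hcardT]
    rcases hgcd with h | h <;> rw [h] <;> decide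
  have hcop := coprime_ker hK hφ hinv hcard hq3 hπ hz hc hk
  -- the rank one groups
  have hrep : ∀ j : Fin 4, ∃ (L : Type u) (_ : Field L) (_ : Finite L) (_ : CharP L p),
      Nonempty (RankRep E6.good φ orbE6 graphE6 4 j L) := by
    intro j
    let K₀ := RingHom.eqLocusField (φ : K →+* K) (RingHom.id K)
    haveI : Finite K₀ := Finite.of_injective (fun x : K₀ => (x : K)) Subtype.val_injective
    haveI : CharP K₀ p := (K₀.subtype.charP_iff_charP p).2 inferInstance
    fin_cases j
    · exact ⟨K₀, inferInstance, inferInstance, inferInstance,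
        exists_rep_single E6.good (k := 1) (by decide) rfl rfl⟩
    · exact ⟨K₀, inferInstance, inferInstance, inferInstance,
        exists_rep_single E6.good (k := 3) (by decide) rfl rfl⟩
    · exact ⟨K, inferInstance, inferInstance, inferInstance,
        exists_rep_pair E6.good orbE6_ok hinv (k := 2) (k' := 4) rfl rfl rfl⟩
    · exact ⟨K, inferInstance, inferInstance, inferInstance,
        exists_rep_pair E6.good orbE6_ok hinv (k := 0) (k' := 5) rfl rfl rfl⟩
  choose L iF iFin iC R' using hrep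
  have R := fun j => Classical.choice (R' j)
  have hinjR := fun j => (R j).injective orbE6_ok facts_chevE6 negTri_chevE6 graphE6_cols hodd
  have hrange := fun j => (R j).range_eq orbE6_ok facts_chevE6 negTri_chevE6 graphE6_cols
  have hnn : ∀ i, (tw2E6 φ).data.nn i ∈ (tw2E6 φ).data.X ((tw2E6 φ).data.simp i) ⊔
      (tw2E6 φ).data.X ((tw2E6 φ).data.opp ((tw2E6 φ).data.simp i)) := fun i => by
    show (tw2E6 φ).nn' i ∈ (tw2E6 φ).X' (orbE6.simpF 48 4 i) ⊔ _
    exact (hrange i).le ⟨_, (R i).map_flip orbE6_ok⟩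
  obtain ⟨Lt, hLt, hdec⟩ := Schur.RootExt.exists_ker_decomp ax hπ hz hc hcop (isPGroup_U hK hinv hcard hk)
    (eq_bot_iff.2 ((inf_le_inf (RootBN.Twist.U'_le_U hT) inf_le_left).trans
      (haveI : Nonempty (Fin 4) := ⟨0⟩; RootBN.Twist.U_inf_H hT).le)) hnn
    (fun i L' hL' hgen => Schur.inf_ker_eq_bot_SL2 π hz hcop (R i).ρ (hinjR i) (hL'.trans (hrange i).symm) hgen)
  choose a ha hprod using fun z : π.ker => hdec z.1 z.2
  -- the diagonal parameters
  have hdiag : ∀ (z : π.ker) (j : Fin 4), ∃ u : (L j)ˣ, π (a z j) = (R j).ρ (torusSL (u : L j)) := by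
    intro z j
    obtain ⟨g', hg'⟩ : π (a z j) ∈ (R j).ρ.range := by
      refine (hrange j).ge ?_
      have := Subgroup.mem_map_of_mem π (ha z j).1
      rw [(hLt j).1] at this
      exact this
    obtain ⟨u, hu, rfl⟩ := (R j).exists_torus_of_mem_diagonal orbE6_ok facts_chevE6 negTri_chevE6 graphE6_cols
      (g := g') (hg'.symm ▸ (ha z j).2)
    exact ⟨Units.mk0 u hu, hg'.symm⟩
  choose u hu using hdiag
  let c : π.ker → (Fin chevE6.rank → Kˣ) := fun z => ∏ j, (R j).torusPt (u z j)
  have hcmem : ∀ z, c z ∈ (torusHom K chevE6).ker ⊓ fixedTorus orbE6_ok φ := by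
    intro z
    refine ⟨MonoidHom.mem_ker.2 ?_, Subgroup.prod_mem _ fun j _ => (R j).torusPt_mem_fixed orbE6_ok _⟩
    have h1 : π (z : E) = 1 := z.2
    rw [hprod z, map_list_prod, List.map_ofFn] at h1
    have e : (π ∘ a z) = fun j => torusHom K chevE6 ((R j).torusPt (u z j)) := funext fun j =>
      (hu z j).trans ((R j).torusHom_torusPt orbE6_ok facts_chevE6 negTri_chevE6 graphE6_cols _).symm
    rw [e] at h1
    show torusHom K chevE6 (∏ j, (R j).torusPt (u z j)) = 1
    rw [← List.prod_ofFn, map_list_prod, List.map_ofFn]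
    exact h1
  have hentry : ∀ z j, ∀ k, (hk : k ∈ orbE6.Jl 4 j) →
      ((c z ⟨k, (orbE6_ok.2.2.1 j).1.1 k hk⟩ : Kˣ) : K) = (R j).e k (u z j : L j) := by
    intro z j k hk
    simp only [c, Finset.prod_apply]
    rw [Finset.prod_eq_single j]
    · simp [RankRep.torusPt, hk]
    · intro i _ hij
      simp only [RankRep.torusPt]
      rw [if_neg fun h => hij (disjoint_J i j k h hk)]
    · simp
  have hJne : ∀ j, ∃ k, k ∈ orbE6.Jl 4 j := fun j => List.exists_mem_of_ne_nil _ (orbE6_ok.2.2.1 j).2.1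
  have hinj_c : Function.Injective c := by
    intro z z' e
    have hue : ∀ j, u z j = u z' j := fun j => by
      obtain ⟨k, hk⟩ := hJne j
      refine Units.ext (((R j).e k).injective ?_)
      rw [← hentry z j k hk, ← hentry z' j k hk, e]
    have hae : a z = a z' := funext fun j => by
      have h1 : a z j * (a z' j)⁻¹ ∈ Lt j ⊓ π.ker := ⟨(Lt j).mul_mem (ha z j).1 ((Lt j).inv_mem (ha z' j).1), by
        show π _ = 1
        rw [map_mul, map_inv, hu, hu, hue, mul_inv_cancel]⟩
      rw [(hLt j).2, Subgroup.mem_bot] at h1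
      exact mul_inv_eq_one.1 h1
    exact Subtype.ext (by rw [hprod z, hprod z', hae])
  refine ⟨?_, ?_⟩
  · rw [← hcardT]
    exact Nat.card_le_card_of_injective (fun z => (⟨c z, hcmem z⟩ : ↥((torusHom K chevE6).ker ⊓ fixedTorus orbE6_ok φ)))
      fun z z' e => hinj_c (congrArg Subtype.val e)
  · intro z hzk
    set z' : π.ker := ⟨z, hzk⟩
    have hcg : c z' ^ g = 1 := by
      have := congrArg Subtype.val (pow_card_eq_one'
        (x := (⟨c z', hcmem z'⟩ : ↥((torusHom K chevE6).ker ⊓ fixedTorus orbE6_ok φ))))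
      rw [hcardT] at this
      exact this
    have hag : ∀ j, a z' j ^ g = 1 := by
      intro j
      obtain ⟨k, hk⟩ := hJne j
      have h1 : (R j).e k ((u z' j : L j) ^ g) = (R j).e k 1 := by
        rw [map_pow, map_one, ← hentry z' j k hk, ← Units.val_pow_eq_pow_val]
        have := congrFun hcg ⟨k, (orbE6_ok.2.2.1 j).1.1 k hk⟩
        rw [Pi.pow_apply, Pi.one_apply] at this
        rw [this, Units.val_one]
      have h2 : (torusSL (u z' j : L j)) ^ g = 1 := by
        have hs := sl2Rels_SL (F := L j)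
        have key : ∀ n : ℕ, (torusSL (u z' j : L j)) ^ n = torusSL ((u z' j : L j) ^ n) := by
          intro n
          induction n with
          | zero => rw [pow_zero, pow_zero, hs.h_one]
          | succ n ih => rw [pow_succ, ih, hs.hmul _ _ (pow_ne_zero _ (Units.ne_zero _)) (Units.ne_zero _), pow_succ]
        rw [key, ((R j).e k).injective h1, hs.h_one]
      have h3 : a z' j ^ g ∈ Lt j ⊓ π.ker := ⟨(Lt j).pow_mem (ha z' j).1 _, by
        show π _ = 1
        rw [map_pow, hu, ← map_pow, h2, map_one]⟩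
      rwa [(hLt j).2, Subgroup.mem_bot] at h3
    have hHab : ∀ x ∈ (tw2E6 φ).data.H, ∀ y ∈ (tw2E6 φ).data.H, x * y = y * x := by
      intro x hx y hy
      obtain ⟨d, rfl⟩ := (diagonal_eq_range (F := K) E6.good).le hx.1
      obtain ⟨d', rfl⟩ := (diagonal_eq_range (F := K) E6.good).le hy.1
      rw [← map_mul, ← map_mul, mul_comm]
    rw [show z = (List.ofFn (a z')).prod from hprod z']
    refine (prod_pow_eq_one hz hHab hgcd _ fun x hx => ?_).2
    obtain ⟨j, rfl⟩ := List.mem_ofFn.1 hx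
    exact ⟨(ha z' j).2, hag j⟩

end Cfsg.Agent.Twisted.E6Mult
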