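/-
²E₆(q), q ≥ 3: a stem extension with kernel of order gcd(3, q + 1), inside the group of (R1), (R2) of E₆.
-/
import Cfsg.Agent.Lib.Twisted.E6Mult.Bound
import Cfsg.Agent.Lib.Chev.Steinberg.Multiplier
import Cfsg.Agent.Lib.Chev.Seven

set_option autoImplicit false
set_option linter.style.haveILetI false

namespace Cfsg.Agent.Twisted.E6Mult

open Cfsg.Lie Cfsg.Agent.Chev Cfsg.Agent.Chev.BNSetup
open scoped commutatorElement

universe u

section model

variable {K : Type u} [Field K] {M : Type*} [Group M] (S : StModel chevE6 K M)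

/-- The product of the root elements of the nodes of a list in the model. -/
def spv (f : ℕ → ℕ) (J : List ℕ) (a : ℕ → K) : M := (J.map fun k => S.x (f k) (a k)).prod

theorem theta_spv {f : ℕ → ℕ} (hf : IsSide chevE6 f) {J : List ℕ} (hJ : ∀ k ∈ J, k < chevE6.rank)
    (a : ℕ → K) : S.θ (spv S f J a) = pv E6.good f J a := by
  rw [spv, pv, map_list_prod, List.map_map]
  congr 1
  exact List.map_congr_left fun k hk =>
    (S.map_x _ (hf.lt E6.good (hJ k hk)) (a k)).trans (xg_eq_xe E6.good _ _)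

theorem x_commute {J : List ℕ} (h : CommOK chevE6 J) {k k' : ℕ} (hk : k ∈ J) (hk' : k' ∈ J) (hne : k ≠ k')
    {r s : ℕ} (hr : r ∈ [chevE6.simple k, chevE6.neg (chevE6.simple k)])
    (hs : s ∈ [chevE6.simple k', chevE6.neg (chevE6.simple k')]) (t u : K) :
    Commute (S.x r t) (S.x s u) := by
  have hlt : ∀ {j x : ℕ}, j ∈ J → x ∈ [chevE6.simple j, chevE6.neg (chevE6.simple j)] → x < chevE6.nroots := by
    intro j x hj hx
    simp only [List.mem_cons, List.not_mem_nil, or_false] at hx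
    rcases hx with rfl | rfl
    exacts [E6.good.simple_lt (h.1 j hj), E6.good.neg_lt (E6.good.simple_lt (h.1 j hj))]
  obtain ⟨h1, h2, h3⟩ := h.2.2 k hk k' hk' hne r hr s hs
  have e := S.comm r (hlt hk hr) s (hlt hk' hs) h1 h2 t u
  rw [ChevalleyDatum.commWord, h3] at e
  simp only [List.map_nil, List.prod_nil] at e
  show S.x r t * S.x s u = S.x s u * S.x r t
  calc S.x r t * S.x s u = S.x r t * S.x s u * ((S.x s u)⁻¹ * (S.x r t)⁻¹ * S.x s u * S.x r t) := by
        rw [e, mul_one]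
    _ = S.x s u * S.x r t := by group

theorem n_commute {J : List ℕ} (h : CommOK chevE6 J) {k k' : ℕ} (hk : k ∈ J) (hk' : k' ∈ J) (hne : k ≠ k')
    (t u : K) : Commute (S.n (chevE6.simple k) t) (S.n (chevE6.simple k') u) := by
  have c := fun {r s : ℕ} (hr : r ∈ [chevE6.simple k, chevE6.neg (chevE6.simple k)])
    (hs : s ∈ [chevE6.simple k', chevE6.neg (chevE6.simple k')]) (x y : K) => x_commute S h hk hk' hne hr hs x y
  exact ((((c (by simp) (by simp) _ _).mul_right (c (by simp) (by simp) _ _)).mul_right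
      (c (by simp) (by simp) _ _)).mul_left
    (((c (by simp) (by simp) _ _).mul_right (c (by simp) (by simp) _ _)).mul_right
      (c (by simp) (by simp) _ _))).mul_left
    (((c (by simp) (by simp) _ _).mul_right (c (by simp) (by simp) _ _)).mul_right
      (c (by simp) (by simp) _ _))

theorem spv_add {f : ℕ → ℕ} (hf : IsSide chevE6 f) {J : List ℕ} (hJ : CommOK chevE6 J) (a b : ℕ → K) :
    spv S f J a * spv S f J b = spv S f J fun k => a k + b k := by
  rw [spv, spv, ← prod_map_mul_comm _ _ _ hJ.2.1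
    fun x hx y hy hne => x_commute S hJ hx hy hne (hf.mem x) (hf.mem y) _ _, spv]
  congr 1
  exact List.map_congr_left fun k hk => S.add _ (hf.lt E6.good (hJ.1 k hk)) _ _

variable (φ : K ≃+* K)

/-- The subgroup generated by the fixed root elements of the simple orbits. -/
def Gam : Subgroup M :=
  Subgroup.closure {x | ∃ (j : Fin 4) (f : ℕ → ℕ) (a : ℕ → K), IsSide chevE6 f ∧
    Compat graphE6 φ (orbE6.Jl 4 j) a ∧ x = spv S f (orbE6.Jl 4 j) a}

theorem spv_mem {j : Fin 4} {f : ℕ → ℕ} (hf : IsSide chevE6 f) {a : ℕ → K}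
    (ha : Compat graphE6 φ (orbE6.Jl 4 j) a) : spv S f (orbE6.Jl 4 j) a ∈ Gam S φ :=
  Subgroup.subset_closure ⟨j, f, a, hf, ha, rfl⟩

theorem map_Gam : (Gam S φ).map S.θ = (tw2E6 φ).Gt := by
  refine le_antisymm ?_ ?_
  · rw [Gam, MonoidHom.map_closure, Subgroup.closure_le]
    rintro _ ⟨_, ⟨j, f, a, hf, ha, rfl⟩, rfl⟩
    rw [theta_spv S hf (orbE6_ok.2.2.1 j).1.1]
    rcases hf with rfl | rfl
    · exact (pv_mem_Gt E6.good orbE6_ok φ facts_chevE6 negTri_chevE6 graphE6_cols j ha).1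
    · exact (pv_mem_Gt E6.good orbE6_ok φ facts_chevE6 negTri_chevE6 graphE6_cols j ha).2
  · exact Gt_le E6.good orbE6_ok φ facts_chevE6 negTri_chevE6 graphE6_cols fun j a ha =>
      ⟨⟨_, spv_mem S φ (Or.inl rfl) ha, theta_spv S (Or.inl rfl) (orbE6_ok.2.2.1 j).1.1 a⟩,
        ⟨_, spv_mem S φ (Or.inr rfl) ha, theta_spv S (Or.inr rfl) (orbE6_ok.2.2.1 j).1.1 a⟩⟩

theorem prod_n_mem {j : Fin 4} {a : ℕ → K} (ha : Compat graphE6 φ (orbE6.Jl 4 j) a) :
    ((orbE6.Jl 4 j).map fun k => S.n (chevE6.simple k) (a k)).prod ∈ Gam S φ := by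
  have hS := orbE6_ok.2.2.1 j
  have hp := spv_mem S φ (Or.inl rfl) ha
  have hq := spv_mem S φ (f := fun k => chevE6.neg (chevE6.simple k)) (Or.inr rfl) (j := j)
    (a := fun k => -(a k)⁻¹) fun k hk => by rw [map_neg, map_inv₀, ← ha k hk]
  have h := Subgroup.mul_mem _ (Subgroup.mul_mem _ hp hq) hp
  rw [spv, spv, ← prod_map_mul_comm _ _ _ hS.1.2.1 (fun x hx y hy hne => x_commute S hS.1 hx hy hne
      (by simp) (by simp) _ _),
    ← prod_map_mul_comm _ _ _ hS.1.2.1 (fun x hx y hy hne => (x_commute S hS.1 hx hy hne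
      (by simp) (by simp) _ _).mul_left (x_commute S hS.1 hx hy hne (by simp) (by simp) _ _))] at h
  exact h

theorem prod_h_mem {j : Fin 4} {a : ℕ → K} (ha : Compat graphE6 φ (orbE6.Jl 4 j) a) :
    ((orbE6.Jl 4 j).map fun k => S.h (chevE6.simple k) (a k)).prod ∈ Gam S φ := by
  have hS := orbE6_ok.2.2.1 j
  have h1 := prod_n_mem S φ ha
  have h2 := prod_n_mem S φ (j := j) (a := fun _ => -1) fun k _ => by rw [map_neg, map_one]
  simp only [StModel.h]
  rw [prod_map_mul_comm _ _ _ hS.1.2.1 fun x hx y hy hne => n_commute S hS.1 hx hy hne _ _]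
  exact Subgroup.mul_mem _ h1 h2

variable {tabs simps : List ℕ} (hf : Facts chevE6 tabs simps) (hst : StData chevE6) (hm : S.MulRel)

theorem orbit_cover : ∀ k < chevE6.rank, ∃ j : Fin 4, k ∈ orbE6.Jl 4 j := by decide +kernel

theorem tau_fixed_mem {τ : Fin chevE6.rank → Kˣ} (hτ : τ ∈ fixedTorus orbE6_ok φ) :
    S.tau E6.good hf hst hm τ ∈ Gam S φ := by
  classical
  have e : τ = ∏ j : Fin 4, fun i : Fin chevE6.rank => if i.val ∈ orbE6.Jl 4 j then τ i else 1 := by
    funext i
    obtain ⟨j, hj⟩ := orbit_cover i.val i.2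
    rw [Finset.prod_apply, Finset.prod_eq_single j, if_pos hj]
    · intro j' _ hne
      rw [if_neg fun h => hne (disjoint_J j' j i.val h hj)]
    · simp
  rw [e]
  refine Finset.prod_induction _ (fun x => S.tau E6.good hf hst hm x ∈ Gam S φ) ?_ ?_ fun j _ => ?_
  · intro a b ha hb
    simp only [map_mul]
    exact Subgroup.mul_mem _ ha hb
  · simp only [map_one]
    exact Subgroup.one_mem _
  have hS := orbE6_ok.2.2.1 j
  let a : ℕ → K := fun k => if hk : k < chevE6.rank then (τ ⟨k, hk⟩ : K) else 0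
  have ha : Compat graphE6 φ (orbE6.Jl 4 j) a := by
    intro k hk
    have hk' := hS.1.1 k hk
    simp only [a, dif_pos hk', dif_pos (orbE6_ok.1.1 k hk').1]
    exact congrArg Units.val ((mem_fixedTorus orbE6_ok φ).1 hτ ⟨k, hk'⟩)
  have key : ∀ L : List ℕ, (∀ k ∈ L, k < chevE6.rank) → L.Nodup →
      S.tau E6.good hf hst hm (fun i : Fin chevE6.rank => if i.val ∈ L then τ i else 1) =
        (L.map fun k => S.h (chevE6.simple k) (a k)).prod := by
    intro L
    induction L with
    | nil => intro _ _; simp [show (fun _ : Fin chevE6.rank => (1 : Kˣ)) = 1 from rfl]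
    | cons k L ih =>
      intro hlt hnd
      rw [List.nodup_cons] at hnd
      have hk := hlt k List.mem_cons_self
      rw [List.map_cons, List.prod_cons, ← ih (fun x hx => hlt x (List.mem_cons_of_mem _ hx)) hnd.2,
        show a k = (τ ⟨k, hk⟩ : K) from dif_pos hk,
        show chevE6.simple k = chevE6.simple (⟨k, hk⟩ : Fin chevE6.rank).val from rfl,
        ← S.tau_single E6.good hf hst hm, ← map_mul]
      congr 1
      funext i
      by_cases hik : i = ⟨k, hk⟩
      · subst hik; simp [hnd.1]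
      · have : i.val ≠ k := fun h => hik (Fin.ext h)
        simp [hik, this]
  show S.tau E6.good hf hst hm _ ∈ _
  rw [key _ hS.1.1 hS.1.2.1]
  exact prod_h_mem S φ ha

theorem tau_conj {s : ℕ} (hs : s < chevE6.nroots) (c : Fin chevE6.rank → Kˣ) (u : K) :
    S.tau E6.good hf hst hm c * S.x s u * (S.tau E6.good hf hst hm c)⁻¹ =
      S.x s ((torusChar chevE6 c s : Kˣ) * u) := by
  classical
  revert u
  rw [← Finset.univ_prod_mulSingle c]
  refine Finset.prod_induction _ (fun x => ∀ u : K, S.tau E6.good hf hst hm x * S.x s u *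
    (S.tau E6.good hf hst hm x)⁻¹ = S.x s ((torusChar chevE6 x s : Kˣ) * u)) ?_ ?_ fun i _ u => ?_
  · intro a b ha hb u
    rw [map_mul, torusChar_mul, Units.val_mul, mul_assoc (torusChar chevE6 a s : K), ← ha, ← hb]
    group
  · intro u
    rw [map_one, torusChar_one, Units.val_one, one_mul, one_mul, inv_one, mul_one]
  · rw [S.tau_single E6.good hf hst hm, S.h_conj_eq E6.good hf hst i.2 hs (c i).ne_zero,
      torusChar, Finset.prod_eq_single i (fun b _ hb => by rw [Pi.mulSingle_eq_of_ne hb, one_zpow]) (by simp),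
      Pi.mulSingle_eq_same, Units.val_zpow_eq_zpow_val]

theorem spv_comm {f : ℕ → ℕ} (hfs : IsSide chevE6 f) {J : List ℕ} (hJ : CommOK chevE6 J)
    (c : Fin chevE6.rank → Kˣ) (a : ℕ → K) :
    ⁅S.tau E6.good hf hst hm c, spv S f J a⁆ =
      spv S f J fun k => ((torusChar chevE6 c (f k) : Kˣ) - 1 : K) * a k := by
  rw [commutatorElement_def, mul_inv_eq_iff_eq_mul, spv_add S hfs hJ]
  show MulAut.conj (S.tau E6.good hf hst hm c) (spv S f J a) = _
  rw [spv, map_list_prod, List.map_map, spv]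
  congr 1
  refine List.map_congr_left fun k hk => ?_
  simp only [Function.comp_apply, MulAut.conj_apply]
  rw [tau_conj S hf hst hm (hfs.lt E6.good (hJ.1 k hk))]
  congr 1
  ring

theorem fpf_side : ∀ j : Fin 4, ∀ k ∈ orbE6.Jl 4 j, Moves (expo (fpfVec j) (chevE6.simple k)) ∧
    Moves (expo (fpfVec j) (chevE6.neg (chevE6.simple k))) := by decide +kernel

theorem cartan_side : ∀ i k : Fin 6,
    chevE6.cartan (graphE6.pi.getD i.val 0) (chevE6.simple (graphE6.pi.getD k.val 0)) =
        chevE6.cartan i.val (chevE6.simple k.val) ∧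
      chevE6.cartan (graphE6.pi.getD i.val 0) (chevE6.neg (chevE6.simple (graphE6.pi.getD k.val 0))) =
        chevE6.cartan i.val (chevE6.neg (chevE6.simple k.val)) := by decide +kernel

theorem torusChar_pi {c : Fin chevE6.rank → Kˣ} (hc : c ∈ fixedTorus orbE6_ok φ) {r r' : ℕ}
    (h : ∀ i : Fin chevE6.rank, chevE6.cartan (graphE6.pi.getD i.val 0) r' = chevE6.cartan i.val r) :
    torusChar chevE6 c r' = Units.map (φ : K →* K) (torusChar chevE6 c r) := by
  rw [torusChar, torusChar, map_prod, ← Equiv.prod_comp (nodePerm orbE6_ok)]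
  refine Finset.prod_congr rfl fun i _ => ?_
  rw [nodePerm_val, h i, (mem_fixedTorus orbE6_ok φ).1 hc i, map_zpow]

variable [Fintype K] {q : ℕ} (hK : Fintype.card K = q ^ 2) (hq3 : 3 ≤ q) (hφ : ∀ x, φ x = x ^ q)
  (hinv : ∀ x, φ (φ x) = x)
include hf hst hm hK hq3 hφ hinv

theorem Gam_le_derived : Gam S φ ≤ ⁅Gam S φ, Gam S φ⁆ := by
  conv_lhs => rw [Gam]
  rw [Subgroup.closure_le]
  rintro _ ⟨j, f, a, hfs, ha, rfl⟩
  have hS := orbE6_ok.2.2.1 j
  set c := pt φ (fpfVec j) (gen K) with hc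
  have hcf : c ∈ fixedTorus orbE6_ok φ := pt_fixed hinv _ _
  have hne : ∀ k ∈ orbE6.Jl 4 j, ((torusChar chevE6 c (f k) : Kˣ) - 1 : K) ≠ 0 := by
    intro k hk h
    have h1 : torusChar chevE6 c (f k) = 1 := Units.ext (sub_eq_zero.1 h)
    rw [hc, torusChar_pt] at h1
    refine moves_ne_one hK hq3 hφ ?_ h1
    rcases hfs with rfl | rfl
    · exact (fpf_side j k hk).1
    · exact (fpf_side j k hk).2
  have hb : Compat graphE6 φ (orbE6.Jl 4 j) fun k => a k / ((torusChar chevE6 c (f k) : Kˣ) - 1 : K) := by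
    intro k hk
    have hk6 : k < 6 := hS.1.1 k hk
    have e : torusChar chevE6 c (f (graphE6.pi.getD k 0)) = Units.map (φ : K →* K) (torusChar chevE6 c (f k)) := by
      refine torusChar_pi φ hcf fun i => ?_
      rcases hfs with rfl | rfl
      · exact (cartan_side i ⟨k, hk6⟩).1
      · exact (cartan_side i ⟨k, hk6⟩).2
    simp only [e, ha k hk, map_div₀, map_sub, map_one, Units.coe_map, MonoidHom.coe_coe]
  have h := Subgroup.commutator_mem_commutator (tau_fixed_mem S φ hf hst hm hcf) (spv_mem S φ hfs hb)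
  rw [spv_comm S hf hst hm hfs hS.1] at h
  rw [SetLike.mem_coe]
  convert h using 1
  unfold spv
  congr 1
  exact List.map_congr_left fun k hk => by simp only [mul_div_cancel₀ _ (hne k hk)]

theorem commutator_Gam : commutator ↥(Gam S φ) = ⊤ := by
  apply Subgroup.map_injective (Gam S φ).subtype_injective
  rw [commutator_def, Subgroup.map_commutator, ← MonoidHom.range_eq_map, Subgroup.range_subtype]
  exact le_antisymm (Subgroup.commutator_le_self _) (Gam_le_derived S φ hf hst hm hK hq3 hφ hinv)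

end model

/-- A group with at most `g` elements, all of exponent `g`, is an image of the cyclic group of order `g`. -/
theorem exists_surj {A : Type*} [Group A] [Finite A] {g : ℕ} (hg : g = 1 ∨ g = 3) (hc : Nat.card A ≤ g)
    (he : ∀ a : A, a ^ g = 1) : ∃ f : Multiplicative (ZMod g) →* A, Function.Surjective f := by
  by_cases h1 : Nat.card A = 1
  · have := Finite.card_le_one_iff_subsingleton.1 h1.le
    exact ⟨1, fun a => ⟨1, Subsingleton.elim _ _⟩⟩
  · rcases hg with rfl | rfl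
    · exact absurd (le_antisymm hc Nat.card_pos) h1
    · haveI : Fact (Nat.Prime 3) := ⟨Nat.prime_three⟩
      obtain ⟨a, ha⟩ : ∃ a : A, a ≠ 1 := by
        by_contra h
        push Not at h
        exact h1 (Nat.card_eq_one_iff_unique.2 ⟨⟨fun x y => by rw [h x, h y]⟩, inferInstance⟩)
      have hord : orderOf a = 3 := orderOf_eq_prime (he a) ha
      have h3 : Nat.card A = 3 := le_antisymm hc (hord ▸ Nat.le_of_dvd Nat.card_pos (orderOf_dvd_natCard a))
      haveI := isCyclic_of_prime_card h3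
      let e : Multiplicative (ZMod 3) ≃* A := mulEquivOfCyclicCardEq (by rw [h3]; exact (Nat.card_zmod 3))
      exact ⟨e.toMonoidHom, e.surjective⟩

variable {K : Type u} [Field K] [Fintype K] {q : ℕ} (hK : Fintype.card K = q ^ 2) (hq3 : 3 ≤ q) {φ : K ≃+* K}
  (hφ : ∀ x, φ x = x ^ q) (hinv : ∀ x, φ (φ x) = x) (hcard : Nat.card {x : K // φ x = x} = q)
include hK hq3 hφ hinv hcard

/-- The multiplier. -/
theorem hasCyclicSchurMultiplier (hpp : IsPrimePow q) :
    Cfsg.HasCyclicSchurMultiplier ↥(tw2E6 φ).Gt (Nat.gcd 3 (q + 1)) := by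
  classical
  obtain ⟨p, k, hp, -, hk⟩ := (isPrimePow_nat_iff q).1 hpp
  haveI := Fact.mk hp
  have hq0 : 0 < q := by omega
  have hgcd : Nat.gcd 3 (q + 1) = 1 ∨ Nat.gcd 3 (q + 1) = 3 :=
    (Nat.dvd_prime Nat.prime_three).1 (Nat.gcd_dvd_left 3 (q + 1))
  set g := Nat.gcd 3 (q + 1) with hg
  -- every stem extension
  have hupper : ∀ (E : Type u) [Group E] [Finite E] (σ : E →* ↥(tw2E6 φ).Gt), IsStemExtension σ →
      Nat.card σ.ker ≤ g ∧ ∀ z : σ.ker, z ^ g = 1 := by
    intro E _ _ σ hσ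
    have hker : ((tw2E6 φ).Gt.subtype.comp σ).ker = σ.ker :=
      MonoidHom.ker_comp_of_injective _ _ (Subgroup.subtype_injective _)
    have hrange : ((tw2E6 φ).Gt.subtype.comp σ).range = (tw2E6 φ).Gt := by
      rw [MonoidHom.range_comp, MonoidHom.range_eq_top.2 hσ.1, ← MonoidHom.range_eq_map, Subgroup.range_subtype]
    have h := ker_bound (π := (tw2E6 φ).Gt.subtype.comp σ) hK hφ hinv hcard hq3 hrange (hker ▸ hσ.2.1)
      (hker ▸ hσ.2.2) (k := k) hk.symm
    rw [hker, ← hg] at h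
    exact ⟨h.1, fun z => Subtype.ext (by rw [SubgroupClass.coe_pow, h.2 z.1 z.2]; rfl)⟩
  -- the model
  have hG := E6.good
  have hD : chevE6 ∈ [chevG2, chevB2, chevD4, chevF4, chevE6, chevE7, chevE8] := by simp
  have hst := stData_of_mem _ hD
  have hf := facts_chevE6
  obtain ⟨θ, -, hθ⟩ := hG.exists_cover_hom (F := K)
  let S := coverModel ((chevE6.group K).subtype.comp θ) hθ
  have hgen := closure_scGen chevE6 K
  have hkc := S.ker_le_center hG hf hst hgen
  have hm := S.mulRel_of_finite hG hf hst hkc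
  have hfk : Finite S.θ.ker := by
    rw [S.ker_eq_map hG hf hst hm hgen]
    exact Set.Finite.to_subtype ((Set.toFinite _).image _)
  haveI hfin : Finite (chevE6.SteinbergCover K) := by
    have : Finite (chevE6.SteinbergCover K ⧸ S.θ.ker) :=
      Finite.of_equiv _ (QuotientGroup.quotientKerEquivRange S.θ).toEquiv.symm
    exact Finite.of_equiv _ (Subgroup.groupEquivQuotientProdSubgroup (s := S.θ.ker)).symm
  -- injectivity on the kernel of the torus map
  obtain ⟨e⟩ := rootEmb_E6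
  have hcardk := (ker_cover_of_emb hG E8.good hf hst e (by decide) kerCertE6 kerCertE6_valid
    ((chevE6.group K).subtype.comp θ) hθ).2
  have hinj : Set.InjOn (S.tau hG hf hst hm) ↑(torusHom K chevE6).ker := by
    let T := (torusHom K chevE6).ker
    let r : T → S.θ.ker := fun c => ⟨S.tau hG hf hst hm c.1,
      MonoidHom.mem_ker.2 ((S.theta_tau hG hf hst hm c.1).trans c.2)⟩
    have hsurj : Function.Surjective r := by
      rintro ⟨x, hx⟩
      obtain ⟨c, hc, rfl⟩ := (S.ker_eq_map hG hf hst hm hgen).le hx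
      exact ⟨⟨c, hc⟩, rfl⟩
    have hb : Function.Bijective r := hsurj.bijective_of_nat_card_le (by
      rw [card_ker_torusHom hG kerCertE6 kerCertE6_valid]
      exact hcardk.ge)
    intro a ha b hb' e
    exact congrArg Subtype.val (hb.1 (a₁ := ⟨a, ha⟩) (a₂ := ⟨b, hb'⟩) (Subtype.ext e))
  -- the cover
  let Γ := Gam S φ
  let σ : Γ →* ↥(tw2E6 φ).Gt := (S.θ.comp Γ.subtype).codRestrict _ fun x =>
    (map_Gam S φ).le (Subgroup.mem_map_of_mem _ x.2)
  have hσ : IsStemExtension σ := by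
    refine ⟨?_, fun x hx => ?_, by rw [commutator_Gam S φ hf hst hm hK hq3 hφ hinv]; exact le_top⟩
    · rintro ⟨y, hy⟩
      obtain ⟨x, hx, rfl⟩ := (map_Gam S φ).ge hy
      exact ⟨⟨x, hx⟩, rfl⟩
    · have hx' : S.θ (x : chevE6.SteinbergCover K) = 1 := congrArg Subtype.val hx
      exact Subgroup.mem_center_iff.2 fun y =>
        Subtype.ext (Subgroup.mem_center_iff.1 (hkc (MonoidHom.mem_ker.2 hx')) _)
  obtain ⟨hle, hexp⟩ := hupper Γ σ hσ
  have hge : g ≤ Nat.card σ.ker := by
    rw [hg, ← card_ker_inf_fixedTorusE6 hq0 hK hφ hinv]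
    refine Nat.card_le_card_of_injective (fun c => ⟨⟨S.tau hG hf hst hm c.1,
      tau_fixed_mem S φ hf hst hm c.2.2⟩, MonoidHom.mem_ker.2 (Subtype.ext
        ((S.theta_tau hG hf hst hm c.1).trans c.2.1))⟩) fun a b e => ?_
    exact Subtype.ext (hinj a.2.1 b.2.1 (congrArg (fun z : σ.ker => ((z : Γ) : chevE6.SteinbergCover K)) e))
  refine ⟨⟨Γ, inferInstance, inferInstance, σ, hσ, ?_⟩, fun E _ _ π hπ =>
    exists_surj hgcd (hupper E π hπ).1 (hupper E π hπ).2⟩
  obtain ⟨f, hf'⟩ := exists_surj hgcd hle hexp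
  haveI : NeZero g := ⟨by rcases hgcd with h | h <;> omega⟩
  exact ⟨(MulEquiv.ofBijective f (hf'.bijective_of_nat_card_le
    (le_trans (Nat.card_zmod g).le hge))).symm⟩

end Cfsg.Agent.Twisted.E6Mult
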